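import Groth.Prelude.Def_CohTop
import Groth.Agent.QCohBase.CechIso
import Groth.Agent.FlasqueAcyclic.Cech
import Mathlib.Algebra.Homology.DerivedCategory.Ext.ExactSequences

/-!
# Cohomology of abelian sheaves over an open: degree zero, long exact sequence, Cartan's criterion
-/

noncomputable section

universe u

open CategoryTheory Limits TopologicalSpace Opposite

namespace Groth.Agent.CohTopLib

open QCohBase

variable {X : TopCat.{u}}

/-- The free abelian presheaf on an open. -/
abbrev freePre (U : Opens X) : (Opens X)ᵒᵖ ⥤ AddCommGrpCat.{u} :=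
  yoneda.obj U ⋙ AddCommGrpCat.free.{u}

/-- The free abelian sheaf on an open. -/
abbrev free (U : Opens X) : CohTop.Ab X :=
  (presheafToSheaf (Opens.grothendieckTopology X) AddCommGrpCat.{u}).obj (freePre U)

/-- The tautological section of the free abelian sheaf. -/
def gen (U : Opens X) : (free U).obj.obj (op U) :=
  (toSheafify (Opens.grothendieckTopology X) (freePre U)).app (op U) (FreeAbelianGroup.of (𝟙 U))

/-- Evaluation at the tautological section. -/
def secHom (F : CohTop.Ab X) (U : Opens X) : (free U ⟶ F) →+ F.obj.obj (op U) where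
  toFun φ := φ.hom.app (op U) (gen U)
  map_zero' := rfl
  map_add' _ _ := rfl

/-- The map from the free presheaf given by a section. -/
def ofSec (P : (Opens X)ᵒᵖ ⥤ AddCommGrpCat.{u}) {U : Opens X} (s : P.obj (op U)) :
    freePre U ⟶ P where
  app V := AddCommGrpCat.ofHom (FreeAbelianGroup.lift fun g : V.unop ⟶ U => P.map g.op s)
  naturality V W h := by
    apply AddCommGrpCat.hom_ext
    apply FreeAbelianGroup.lift_ext
    intro g
    refine (congrArg (FreeAbelianGroup.lift _) (FreeAbelianGroup.map_of_apply _)).trans ?_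
    refine (FreeAbelianGroup.lift_apply_of _ _).trans ?_
    refine Eq.trans ?_ (congrArg (P.map h) (FreeAbelianGroup.lift_apply_of
      (fun g : V.unop ⟶ U => P.map g.op s) g)).symm
    rw [← ConcreteCategory.comp_apply, ← P.map_comp]
    rfl

lemma secHom_bijective (F : CohTop.Ab X) (U : Opens X) : Function.Bijective (secHom F U) := by
  constructor
  · intro φ ψ h
    apply CategoryTheory.Sheaf.hom_ext
    apply sheafify_hom_ext _ _ _ F.property
    ext1
    ext1 V
    apply AddCommGrpCat.hom_ext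
    apply FreeAbelianGroup.lift_ext
    intro g
    have hg : FreeAbelianGroup.of g = (freePre U).map g.op (FreeAbelianGroup.of (𝟙 U)) :=
      (congrArg FreeAbelianGroup.of (Category.comp_id g).symm).trans
        (FreeAbelianGroup.map_of_apply _).symm
    have key : ∀ φ : free U ⟶ F,
        (toSheafify _ (freePre U) ≫ φ.hom).app V (FreeAbelianGroup.of g) =
          F.obj.map g.op (secHom F U φ) := fun φ => by
      rw [hg]
      exact ConcreteCategory.congr_hom ((toSheafify _ (freePre U) ≫ φ.hom).naturality g.op) _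
    exact (key φ).trans ((congrArg (F.obj.map g.op) h).trans (key ψ).symm)
  · intro s
    refine ⟨⟨sheafifyLift _ (ofSec F.obj s) F.property⟩, ?_⟩
    refine (ConcreteCategory.congr_hom (congrArg (fun m : freePre U ⟶ F.obj => m.app (op U))
      (toSheafify_sheafifyLift _ (ofSec F.obj s) F.property)) (FreeAbelianGroup.of (𝟙 U))).trans ?_
    refine (FreeAbelianGroup.lift_apply_of _ _).trans ?_
    exact ConcreteCategory.congr_hom (F.obj.map_id (op U)) s

/-- Maps out of the free abelian sheaf on an open are sections. -/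
def secEquiv (F : CohTop.Ab X) (U : Opens X) : (free U ⟶ F) ≃+ F.obj.obj (op U) :=
  AddEquiv.ofBijective (secHom F U) (secHom_bijective F U)

/-- The map of free sheaves of an inclusion. -/
abbrev freeMap {U V : Opens X} (h : V ≤ U) : free V ⟶ free U :=
  (presheafToSheaf (Opens.grothendieckTopology X) AddCommGrpCat.{u}).map
    (Functor.whiskerRight (yoneda.map (homOfLE h)) AddCommGrpCat.free.{u})

lemma secHom_freeMap {F : CohTop.Ab X} {U V : Opens X} (h : V ≤ U) (φ : free U ⟶ F) :
    secHom F V (freeMap h ≫ φ) = QCohBase.res F.obj h (secHom F U φ) := by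
  have h1 : (freeMap h).hom.app (op V) (gen V) = (free U).obj.map (homOfLE h).op (gen U) := by
    refine (ConcreteCategory.congr_hom (congrArg (fun m => NatTrans.app m (op V))
      (toSheafify_naturality (Opens.grothendieckTopology X)
        (Functor.whiskerRight (yoneda.map (homOfLE h)) AddCommGrpCat.free.{u})))
      (FreeAbelianGroup.of (𝟙 V))).symm.trans ?_
    refine Eq.trans ?_ (ConcreteCategory.congr_hom
      ((toSheafify (Opens.grothendieckTopology X) (freePre U)).naturality (homOfLE h).op) _)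
    exact congrArg ((toSheafify _ (freePre U)).app (op V))
      ((FreeAbelianGroup.map_of_apply _).trans (FreeAbelianGroup.map_of_apply _).symm)
  exact (congrArg (φ.hom.app (op V)) h1).trans
    (ConcreteCategory.congr_hom (φ.hom.naturality (homOfLE h).op) (gen U))

/-- Degree zero cohomology over an open is sections. -/
def hu0 (F : CohTop.Ab X) (U : Opens X) : CohTop.HU F 0 U ≃+ F.obj.obj (op U) :=
  (Abelian.Ext.addEquiv₀ (X := free U) (Y := F)).trans (secEquiv F U)

lemma hu0_mk₀ {F : CohTop.Ab X} {U : Opens X} (φ : free U ⟶ F) :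
    hu0 F U (Abelian.Ext.mk₀ φ) = secHom F U φ := by
  refine congrArg (secHom F U) ?_
  exact Abelian.Ext.addEquiv₀.symm.injective ((AddEquiv.symm_apply_apply _ _).trans rfl)

lemma hu0_symm_apply {F : CohTop.Ab X} {U : Opens X} (s : F.obj.obj (op U)) :
    ∃ φ : free U ⟶ F, (hu0 F U).symm s = Abelian.Ext.mk₀ φ ∧ secHom F U φ = s := by
  obtain ⟨φ, hφ⟩ := (secHom_bijective F U).2 s
  exact ⟨φ, (hu0 F U).injective (((hu0 F U).apply_symm_apply s).trans
    (hφ.symm.trans (hu0_mk₀ φ).symm)), hφ⟩

lemma hu0_HUmap {F G : CohTop.Ab X} (f : F ⟶ G) (U : Opens X) (x : CohTop.HU F 0 U) :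
    hu0 G U (CohTop.HUmap f 0 U x) = f.hom.app (op U) (hu0 F U x) := by
  obtain ⟨φ, rfl⟩ := (Abelian.Ext.addEquiv₀ (X := free U) (Y := F)).symm.surjective x
  refine Eq.trans ?_ (congrArg (f.hom.app (op U)) (hu0_mk₀ φ).symm)
  refine Eq.trans (congrArg (hu0 G U) ?_) (hu0_mk₀ (φ ≫ f))
  exact Abelian.Ext.mk₀_comp_mk₀ φ f

lemma hu0_res {F : CohTop.Ab X} {U V : Opens X} (h : V ≤ U) (x : CohTop.HU F 0 U) :
    hu0 F V (CohTop.res F 0 h x) = QCohBase.res F.obj h (hu0 F U x) := by
  obtain ⟨φ, rfl⟩ := (Abelian.Ext.addEquiv₀ (X := free U) (Y := F)).symm.surjective x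
  refine Eq.trans ?_ (congrArg (QCohBase.res F.obj h) (hu0_mk₀ φ).symm)
  refine Eq.trans (congrArg (hu0 F V) ?_) ((hu0_mk₀ (freeMap h ≫ φ)).trans (secHom_freeMap h φ))
  exact Abelian.Ext.mk₀_comp_mk₀ (freeMap h) φ

section LES

variable {T : ShortComplex (CohTop.Ab X)}

/-- The connecting map for cohomology over an open. -/
def huDelta (hT : T.ShortExact) (n : ℕ) (U : Opens X) :
    CohTop.HU T.X₃ n U →+ CohTop.HU T.X₁ (n + 1) U :=
  hT.extClass.postcomp (free U) rfl

lemma huDelta_apply (hT : T.ShortExact) (n : ℕ) (U : Opens X) (x : CohTop.HU T.X₃ n U) :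
    huDelta hT n U x = Abelian.Ext.comp x hT.extClass rfl := rfl

lemma huDelta_res (hT : T.ShortExact) (n : ℕ) {U V : Opens X} (h : V ≤ U)
    (x : CohTop.HU T.X₃ n U) :
    CohTop.res T.X₁ (n + 1) h (huDelta hT n U x) = huDelta hT n V (CohTop.res T.X₃ n h x) :=
  (Abelian.Ext.comp_assoc (Abelian.Ext.mk₀ (freeMap h)) x hT.extClass (zero_add n) rfl
    (by omega)).symm

lemma huDelta_surjective (hT : T.ShortExact) (n : ℕ) (U : Opens X)
    (h : Subsingleton (CohTop.HU T.X₂ (n + 1) U)) : Function.Surjective (huDelta hT n U) := by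
  intro x
  obtain ⟨y, hy⟩ := Abelian.Ext.covariant_sequence_exact₁ (free U) hT x (h.elim _ _) rfl
  exact ⟨y, hy⟩

lemma huDelta_injective (hT : T.ShortExact) (n : ℕ) (U : Opens X)
    (h : Subsingleton (CohTop.HU T.X₂ n U)) : Function.Injective (huDelta hT n U) := by
  refine (injective_iff_map_eq_zero _).2 fun x hx => ?_
  obtain ⟨y, hy⟩ := Abelian.Ext.covariant_sequence_exact₃ (free U) hT x rfl hx
  obtain rfl : y = 0 := h.elim y 0
  exact hy.symm.trans (Abelian.Ext.zero_comp _ _ _ _ _)

lemma huDelta_zero_iff (hT : T.ShortExact) (U : Opens X) (s : T.X₃.obj.obj (op U)) :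
    huDelta hT 0 U ((hu0 T.X₃ U).symm s) = 0 ↔ ∃ t, T.g.hom.app (op U) t = s := by
  constructor
  · intro h
    obtain ⟨y, hy⟩ := Abelian.Ext.covariant_sequence_exact₃ (free U) hT _ rfl h
    exact ⟨hu0 T.X₂ U y, (hu0_HUmap T.g U y).symm.trans
      ((congrArg (hu0 T.X₃ U) hy).trans ((hu0 T.X₃ U).apply_symm_apply s))⟩
  · rintro ⟨t, rfl⟩
    obtain ⟨φ, hφ, rfl⟩ := hu0_symm_apply t
    have : (hu0 T.X₃ U).symm (T.g.hom.app (op U) (secHom T.X₂ U φ)) = Abelian.Ext.mk₀ (φ ≫ T.g) :=
      (hu0 T.X₃ U).injective (((hu0 T.X₃ U).apply_symm_apply _).trans (hu0_mk₀ (φ ≫ T.g)).symm)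
    rw [this, huDelta_apply, ← Abelian.Ext.mk₀_comp_mk₀]
    exact (Abelian.Ext.comp_assoc_of_second_deg_zero _ _ _ _).trans (by
      rw [hT.comp_extClass, Abelian.Ext.comp_zero]; rfl)

end LES

instance subsingleton_HU_injective (I : CohTop.Ab X) [Injective I] (n : ℕ) (U : Opens X) :
    Subsingleton (CohTop.HU I (n + 1) U) :=
  subsingleton_of_forall_eq 0 fun x =>
    Abelian.Ext.eq_zero_of_injective (X := free U) (I := I) x

/-- Cartan's criterion over an open. -/
theorem subsingleton_HU {S : CovSystem X} {U : Opens X} (hU : S.B U) {F : CohTop.Ab X}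
    (hF : S.Acyclic F) (n : ℕ) : Subsingleton (CohTop.HU F (n + 1) U) := by
  induction n generalizing F with
  | zero =>
    have hT := CovSystem.injSeq_shortExact F
    refine subsingleton_of_forall_eq 0 fun x => ?_
    obtain ⟨y, rfl⟩ := huDelta_surjective hT 0 U (subsingleton_HU_injective _ 0 U) x
    obtain ⟨s, rfl⟩ := (hu0 (CovSystem.injSeq F).X₃ U).symm.surjective y
    exact (huDelta_zero_iff hT U s).2 (CovSystem.sections_surjective hT hF hU s)
  | succ n ih =>
    have hT := CovSystem.injSeq_shortExact F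
    have := ih (CovSystem.acyclic_cokernel hT hF)
    exact (huDelta_surjective hT (n + 1) U (subsingleton_HU_injective _ _ U)).subsingleton

/-- Flasque sheaves have no cohomology over opens. -/
theorem subsingleton_HU_of_isFlasque (F : CohTop.Ab X) [TopCat.Sheaf.IsFlasque F] (U : Opens X)
    (n : ℕ) : Subsingleton (CohTop.HU F (n + 1) U) :=
  subsingleton_HU (S := CovSystem.univ X) trivial (FlasqueAcyclic.acyclic_of_isFlasque _ F) n

/-- The Cech cohomology of the prelude by the concrete complex. -/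
def cechHIso (P : (Opens X)ᵒᵖ ⥤ AddCommGrpCat.{u}) {ι : Type u} (V : ι → Opens X) (p : ℕ) :
    CohTop.cechH P V p ≅ (cech V P).homology p :=
  (HomologicalComplex.homologyFunctor AddCommGrpCat.{u} (ComplexShape.up ℕ) p).mapIso (cechIso V P)

lemma cechAcyclic_iff (P : (Opens X)ᵒᵖ ⥤ AddCommGrpCat.{u}) {ι : Type u} (V : ι → Opens X) :
    CechAcyclic V P ↔ ∀ p, IsZero (CohTop.cechH P V (p + 1)) :=
  forall_congr' fun p => ((cech V P).exactAt_iff_isZero_homology (p + 1)).trans
    ⟨fun h => h.of_iso (cechHIso P V (p + 1)), fun h => h.of_iso (cechHIso P V (p + 1)).symm⟩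

end Groth.Agent.CohTopLib
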