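import Groth.Agent.DerCat.KInjProducts
import Groth.Agent.DerCat.Devissage
import Mathlib.Algebra.Homology.DerivedCategory.FullyFaithful

/-!
# Maps out of a single object in the derived category
-/

noncomputable section

universe w v u

open CategoryTheory Limits DerivedCategory

set_option backward.isDefEq.respectTransparency false
set_option backward.defeqAttrib.useBackward true

namespace Groth.Agent.CohTopLib

variable {C : Type u} [Category.{v} C] [Abelian C] [HasDerivedCategory.{w} C] {A : C}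

/-- The map from a single object given by a cycle in degree zero. -/
def cxOf {L : CochainComplex C ℤ} (φ : A ⟶ L.X 0) (h : φ ≫ L.d 0 1 = 0) :
    (CochainComplex.singleFunctor C 0).obj A ⟶ L :=
  HomologicalComplex.mkHomFromSingle φ fun k (hk : (0 : ℤ) + 1 = k) => by subst hk; exact h

lemma cxOf_f {L : CochainComplex C ℤ} (φ : A ⟶ L.X 0) (h : φ ≫ L.d 0 1 = 0) :
    (cxOf φ h).f 0 = (HomologicalComplex.singleObjXSelf (ComplexShape.up ℤ) 0 A).hom ≫ φ :=
  HomologicalComplex.mkHomFromSingle_f _ _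

/-- The class in the derived category of a cycle in degree zero. -/
def dOf {L : CochainComplex C ℤ} (φ : A ⟶ L.X 0) (h : φ ≫ L.d 0 1 = 0) :
    (singleFunctor C 0).obj A ⟶ (shiftFunctor (DerivedCategory C) (0 : ℤ)).obj (Q.obj L) :=
  Q.map (cxOf φ h) ≫ (shiftFunctorZero (DerivedCategory C) ℤ).inv.app (Q.obj L)

lemma dOf_add {L : CochainComplex C ℤ} (φ ψ : A ⟶ L.X 0) (hφ : φ ≫ L.d 0 1 = 0)
    (hψ : ψ ≫ L.d 0 1 = 0) (h : (φ + ψ) ≫ L.d 0 1 = 0) :
    dOf (φ + ψ) h = dOf φ hφ + dOf ψ hψ := by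
  have : cxOf (φ + ψ) h = cxOf φ hφ + cxOf ψ hψ := HomologicalComplex.from_single_hom_ext (by
    rw [HomologicalComplex.add_f_apply, cxOf_f, cxOf_f, cxOf_f, Preadditive.comp_add])
  rw [dOf, this, Functor.map_add, Preadditive.add_comp]
  rfl

lemma map_comp_dOf {A' : C} (a : A' ⟶ A) {L : CochainComplex C ℤ} (φ : A ⟶ L.X 0)
    (h : φ ≫ L.d 0 1 = 0) (h' : (a ≫ φ) ≫ L.d 0 1 = 0) :
    (singleFunctor C 0).map a ≫ dOf φ h = dOf (a ≫ φ) h' := by
  have : (CochainComplex.singleFunctor C 0).map a ≫ cxOf φ h = cxOf (a ≫ φ) h' :=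
    HomologicalComplex.from_single_hom_ext (by
      rw [HomologicalComplex.comp_f, cxOf_f, cxOf_f]
      erw [HomologicalComplex.single_map_f_self]
      simp)
  rw [dOf, dOf, ← Category.assoc]
  change (Q.map ((CochainComplex.singleFunctor C 0).map a) ≫ Q.map (cxOf φ h)) ≫ _ = _
  rw [← Functor.map_comp, this]

lemma dOf_eq_zero_of_boundary {L : CochainComplex C ℤ} (g : A ⟶ L.X (-1))
    (h : (g ≫ L.d (-1) 0) ≫ L.d 0 1 = 0) : dOf (g ≫ L.d (-1) 0) h = 0 := by
  let hh : ∀ i j : ℤ, (ComplexShape.up ℤ).Rel j i →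
      (((CochainComplex.singleFunctor C 0).obj A).X i ⟶ L.X j) := fun i j hij =>
    if hi : i = 0 then
      (HomologicalComplex.singleObjXIsoOfEq (ComplexShape.up ℤ) 0 A i hi).hom ≫ g ≫
        (L.XIsoOfEq (show j = -1 by simp at hij; omega)).inv
    else 0
  have : cxOf (g ≫ L.d (-1) 0) h = Homotopy.nullHomotopicMap' hh := by
    refine HomologicalComplex.from_single_hom_ext ?_
    rw [cxOf_f, Homotopy.nullHomotopicMap'_f (show (ComplexShape.up ℤ).Rel (-1) 0 by simp)
      (show (ComplexShape.up ℤ).Rel 0 1 by simp)]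
    simp [hh, HomologicalComplex.XIsoOfEq_rfl]
    rfl
  have hQ : Q.map (cxOf (g ≫ L.d (-1) 0) h) = Q.map (0 : (CochainComplex.singleFunctor C 0).obj A ⟶ L) := by
    have hf := (quotientCompQhIso C).hom.naturality (cxOf (g ≫ L.d (-1) 0) h)
    have hg := (quotientCompQhIso C).hom.naturality (0 : (CochainComplex.singleFunctor C 0).obj A ⟶ L)
    have e := HomotopyCategory.eq_of_homotopy (cxOf (g ≫ L.d (-1) 0) h) 0
      ((Homotopy.ofEq this).trans (Homotopy.nullHomotopy' hh))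
    rw [Functor.comp_map, e] at hf
    rw [Functor.comp_map, hf, cancel_epi] at hg
    exact hg
  rw [dOf, hQ, Functor.map_zero, zero_comp]

lemma exists_boundary_of_dOf_eq_zero {L : CochainComplex C ℤ} [L.IsKInjective] (φ : A ⟶ L.X 0)
    (h : φ ≫ L.d 0 1 = 0) (h0 : dOf φ h = 0) : ∃ g, g ≫ L.d (-1) 0 = φ := by
  have hQ : Q.map (cxOf φ h) = Q.map (0 : (CochainComplex.singleFunctor C 0).obj A ⟶ L) := by
    rw [Functor.map_zero, ← cancel_mono ((shiftFunctorZero (DerivedCategory C) ℤ).inv.app (Q.obj L)),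
      zero_comp]
    exact h0
  obtain ⟨H⟩ := (DerCat.Q_map_eq_iff _ _).1 hQ
  refine ⟨(HomologicalComplex.singleObjXSelf (ComplexShape.up ℤ) 0 A).inv ≫ H.hom 0 (-1), ?_⟩
  have hc := H.comm 0
  rw [dNext_eq _ (show (ComplexShape.up ℤ).Rel 0 1 by simp),
    prevD_eq _ (show (ComplexShape.up ℤ).Rel (-1) 0 by simp)] at hc
  simp only [HomologicalComplex.zero_f, sub_zero, add_zero] at hc
  have hd : ((CochainComplex.singleFunctor C 0).obj A).d 0 1 = 0 := by
    exact HomologicalComplex.single_obj_d ..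
  rw [hd, zero_comp, zero_add] at hc
  rw [Category.assoc]
  exact ((congrArg (_ ≫ ·) hc.symm).trans (congrArg (_ ≫ ·) (cxOf_f φ h))).trans
    (Iso.inv_hom_id_assoc _ _)

lemma dOf_surjective {L : CochainComplex C ℤ} [L.IsKInjective]
    (ξ : (singleFunctor C 0).obj A ⟶ (shiftFunctor (DerivedCategory C) (0 : ℤ)).obj (Q.obj L)) :
    ∃ (φ : A ⟶ L.X 0) (h : φ ≫ L.d 0 1 = 0), dOf φ h = ξ := by
  obtain ⟨f, hf⟩ := DerCat.Q_map_surjective (K := (CochainComplex.singleFunctor C 0).obj A)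
    (ξ ≫ (shiftFunctorZero (DerivedCategory C) ℤ).hom.app (Q.obj L))
  refine ⟨(HomologicalComplex.singleObjXSelf (ComplexShape.up ℤ) 0 A).inv ≫ f.f 0, ?_, ?_⟩
  · rw [Category.assoc, f.comm 0 1]
    erw [HomologicalComplex.single_obj_d]
    simp
  · have : ∀ h', cxOf ((HomologicalComplex.singleObjXSelf (ComplexShape.up ℤ) 0 A).inv ≫ f.f 0) h' = f :=
      fun h' => HomologicalComplex.from_single_hom_ext (by
        rw [cxOf_f, ← Category.assoc, Iso.hom_inv_id, Category.id_comp])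
    rw [dOf, this, hf, Category.assoc, Iso.hom_inv_id_app]
    exact Category.comp_id _

lemma single_hom_eq_zero (Z : DerivedCategory C) [Z.IsGE 1]
    (ξ : (singleFunctor C 0).obj A ⟶ Z) : ξ = 0 :=
  TStructure.t.zero ξ 0 1

open TStructure in
lemma homology_map_bijective (Z : DerivedCategory C) [Z.IsGE 0] :
    Function.Bijective (fun ξ : (singleFunctor C 0).obj A ⟶ Z =>
      (singleFunctorCompHomologyFunctorIso C 0).inv.app A ≫ (homologyFunctor C 0).map ξ) := by
  haveI h1 := DerCat.isIso_homology_truncLEι Z 0 0 le_rfl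
  let T := (t.truncLE 0).obj Z
  haveI : T.IsGE 0 := by
    rw [DerivedCategory.isGE_iff]
    intro i hi
    haveI := DerCat.isIso_homology_truncLEι Z 0 i hi.le
    exact (isZero_of_isGE Z 0 i hi).of_iso (asIso ((homologyFunctor C i).map ((t.truncLEι 0).app Z)))
  haveI : T.IsLE 0 := inferInstanceAs (((t.truncLE 0).obj Z).IsLE 0)
  obtain ⟨B, ⟨e⟩⟩ := exists_iso_singleFunctor_obj_of_isGE_of_isLE T 0
  let ι : (singleFunctor C 0).obj B ⟶ Z := e.inv ≫ (t.truncLEι 0).app Z
  have hι : IsIso ((singleFunctorCompHomologyFunctorIso C 0).inv.app B ≫ (homologyFunctor C 0).map ι) := by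
    simp only [ι, Functor.map_comp]
    infer_instance
  have hlift : ∀ ξ : (singleFunctor C 0).obj A ⟶ Z, ∃ a : A ⟶ B, (singleFunctor C 0).map a ≫ ι = ξ := by
    intro ξ
    have hT := t.triangleLEGT_distinguished 0 Z
    obtain ⟨ψ, hψ⟩ := Pretriangulated.Triangle.coyoneda_exact₂ _ hT ξ
      (@single_hom_eq_zero _ _ _ _ _ ((t.truncGT 0).obj Z)
        (inferInstanceAs (t.IsGE ((t.truncGT 0).obj Z) (0 + 1))) _)
    obtain ⟨a, ha⟩ := (singleFunctor C 0).map_surjective (ψ ≫ e.hom)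
    refine ⟨a, ?_⟩
    rw [ha, Category.assoc, show e.hom ≫ ι = (t.truncLEι 0).app Z from e.hom_inv_id_assoc _]
    exact hψ.symm
  have hcomp : ∀ a : A ⟶ B, (singleFunctorCompHomologyFunctorIso C 0).inv.app A ≫
      (homologyFunctor C 0).map ((singleFunctor C 0).map a ≫ ι) =
      a ≫ (singleFunctorCompHomologyFunctorIso C 0).inv.app B ≫ (homologyFunctor C 0).map ι := fun a => by
    rw [Functor.map_comp, ← Category.assoc, ← Category.assoc]
    exact congrArg (· ≫ _) ((singleFunctorCompHomologyFunctorIso C 0).inv.naturality a).symm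
  constructor
  · intro ξ ξ' hξ
    obtain ⟨a, rfl⟩ := hlift ξ
    obtain ⟨a', rfl⟩ := hlift ξ'
    simp only [hcomp] at hξ
    rw [(cancel_mono _).1 hξ]
  · intro b
    refine ⟨(singleFunctor C 0).map (b ≫ inv ((singleFunctorCompHomologyFunctorIso C 0).inv.app B ≫
      (homologyFunctor C 0).map ι)) ≫ ι, ?_⟩
    simp only [hcomp, Category.assoc, IsIso.inv_hom_id, Category.comp_id]

end Groth.Agent.CohTopLib
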