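import Mathlib.CategoryTheory.Sites.Spaces
import Mathlib.Topology.Sets.Opens

/-! # Covering opens by a basis, on the site of opens -/

universe u

open CategoryTheory TopologicalSpace

namespace Groth.Agent.CohTopLib

theorem exists_basis_cover {X : Type u} [TopologicalSpace X] {B : Set (Opens X)} (hB : Opens.IsBasis B)
    (U : Opens X) : ∃ (ι : Type u) (Y : ι → Opens X) (f : ∀ i, Y i ⟶ U),
      Sieve.ofArrows Y f ∈ Opens.grothendieckTopology X U ∧ ∀ i, Y i ∈ B := by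
  refine ⟨{V : Opens X // V ∈ B ∧ V ≤ U}, fun i => i.1, fun i => homOfLE i.2.2, ?_, fun i => i.2.1⟩
  intro x hx
  obtain ⟨V, hV, hxV, hVU⟩ := Opens.isBasis_iff_nbhd.1 hB hx
  exact ⟨V, homOfLE hVU, Sieve.mem_ofArrows_iff (fun i : {V : Opens X // V ∈ B ∧ V ≤ U} => i.1) _ _ |>.2 ⟨⟨V, hV, hVU⟩, 𝟙 V, Subsingleton.elim _ _⟩, hxV⟩

end Groth.Agent.CohTopLib
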