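import Groth.Agent.CohTopLib.Basic

/-!
# Cech cohomology of an acyclic cover; surjectivity on sections from vanishing of Cech H¹
-/

noncomputable section

universe u

open CategoryTheory Limits TopologicalSpace Opposite HomologicalComplex

namespace Groth.Agent.CohTopLib

open QCohBase

variable {X : TopCat.{u}} {ι : Type u} (V : ι → Opens X)

lemma inter_le_iSup {n : ℕ} (i : Fin (n + 1) → ι) : inter V i ≤ iSup V :=
  (iInf_le _ 0).trans (le_iSup V (i 0))

/-- Restriction of a section over the union to a Cech 0-cochain. -/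
def augCech (P : TopCat.Presheaf AddCommGrpCat.{u} X) : P.obj (op (iSup V)) ⟶ (cech V P).X 0 :=
  AddCommGrpCat.ofHom
    { toFun := fun s i => QCohBase.res P (inter_le_iSup V i) s
      map_zero' := funext fun _ => map_zero _
      map_add' := fun _ _ => funext fun _ => map_add _ _ _ }

lemma augCech_d (P : TopCat.Presheaf AddCommGrpCat.{u} X) :
    augCech V P ≫ (cech V P).d 0 1 = 0 := by
  refine AddCommGrpCat.ext fun s => ?_
  refine (cech_d_apply V P 0 _).trans (funext fun i => (dCech_zero_apply V _ i).trans ?_)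
  exact sub_eq_zero.2 ((res_res P _ _ s).trans (res_res P _ _ s).symm)

/-- Sections over the union to degree zero Cech cohomology. -/
def toCechZero (P : TopCat.Presheaf AddCommGrpCat.{u} X) :
    P.obj (op (iSup V)) ⟶ (cech V P).homology 0 :=
  (cech V P).liftCycles (augCech V P) 1 (by simp) (augCech_d V P) ≫ (cech V P).homologyπ 0

lemma toCechZero_naturality {P Q : TopCat.Presheaf AddCommGrpCat.{u} X} (f : P ⟶ Q) :
    f.app (op (iSup V)) ≫ toCechZero V Q =
      toCechZero V P ≫ homologyMap ((cechFunctor V).map f) 0 := by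
  simp only [toCechZero]
  refine Eq.trans ?_ (Category.assoc _ _ _).symm
  refine Eq.trans ?_ (congrArg _ (homologyπ_naturality ((cechFunctor V).map f) 0).symm)
  refine Eq.trans ?_ (Category.assoc _ _ _)
  refine (Category.assoc _ _ _).symm.trans (congrArg (fun m => m ≫ (cech V Q).homologyπ 0) ?_)
  have h : f.app (op (iSup V)) ≫ augCech V Q = augCech V P ≫ ((cechFunctor V).map f).f 0 :=
    AddCommGrpCat.ext fun s => funext fun i => nat_res P f (inter_le_iSup V i) s
  refine (cancel_mono ((cech V Q).iCycles 0)).1 ?_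
  rw [Category.assoc, liftCycles_i, h]
  refine Eq.symm ((Category.assoc _ _ _).trans
    ((congrArg _ (cyclesMap_i ((cechFunctor V).map f) 0)).trans ?_))
  refine (Category.assoc _ _ _).symm.trans (congrArg (fun m => m ≫ _) ?_)
  exact liftCycles_i _ _ _ _ _

lemma toCechZero_bijective (F : CohTop.Ab X) :
    Function.Bijective (toCechZero V F.obj) := by
  have hk : ∀ k : ι, V k ≤ inter V (fun _ : Fin 1 => k) := fun k => le_iInf fun _ => le_rfl
  have hinj : Function.Injective (augCech V F.obj) := fun s t h =>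
    TopCat.Sheaf.eq_of_locally_eq' F V _ (fun k => homOfLE (le_iSup V k)) le_rfl s t fun k => by
      exact ((res_res F.obj _ _ _).symm.trans
        (congrArg (QCohBase.res F.obj (hk k)) (congrFun h (fun _ => k)))).trans (res_res F.obj _ _ _)
  have hex : ∀ u : cochain V F.obj (Fin 1), dCech V F.obj 0 u = 0 →
      ∃ s, augCech V F.obj s = u := fun u hu => by
    obtain ⟨v, hv⟩ := cocycle_zero_glue V F rfl u hu
    exact ⟨v, funext fun i => hv i _⟩
  have hi : Function.Injective ((cech V F.obj).iCycles 0) :=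
    (AddCommGrpCat.mono_iff_injective _).1 inferInstance
  have hπ : Function.Bijective ((cech V F.obj).homologyπ 0) :=
    ConcreteCategory.bijective_of_isIso _
  have hli : ∀ s, (cech V F.obj).iCycles 0
      ((cech V F.obj).liftCycles (augCech V F.obj) 1 (by simp) (augCech_d V F.obj) s) =
      augCech V F.obj s := fun s => by
    rw [← ConcreteCategory.comp_apply, liftCycles_i]
  have h2 : Function.Bijective
      ((cech V F.obj).liftCycles (augCech V F.obj) 1 (by simp) (augCech_d V F.obj)) := by
    refine ⟨fun s t h => hinj ?_, fun z => ?_⟩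
    · rw [← hli s, h, hli]
    · obtain ⟨s, hs⟩ := hex ((cech V F.obj).iCycles 0 z)
        ((cech_d_apply V F.obj 0 _).symm.trans (by
          rw [← ConcreteCategory.comp_apply, iCycles_d]; rfl))
      exact ⟨s, hi ((hli s).trans hs)⟩
  exact hπ.comp h2

/-- All intersections are acyclic. -/
def AcyclicInter (F : CohTop.Ab X) : Prop :=
  ∀ (p : ℕ) (a : Fin (p + 1) → ι) (q : ℕ), Subsingleton (CohTop.HU F (q + 1) (inter V a))

variable {V}

lemma acyclicInter_cokernel {T : ShortComplex (CohTop.Ab X)} (hT : T.ShortExact)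
    (h : AcyclicInter V T.X₁) [Injective T.X₂] : AcyclicInter V T.X₃ := fun p a q =>
  haveI := h p a (q + 1)
  (huDelta_injective hT (q + 1) _ (subsingleton_HU_injective _ q _)).subsingleton

lemma sections_surjective_inter {T : ShortComplex (CohTop.Ab X)} (hT : T.ShortExact)
    (h : AcyclicInter V T.X₁) {p : ℕ} (a : Fin (p + 1) → ι) :
    Function.Surjective (T.g.hom.app (op (inter V a))) := fun s =>
  (huDelta_zero_iff hT _ s).1 ((h p a 0).elim _ _)

lemma cech_shortExact_inter {T : ShortComplex (CohTop.Ab X)} (hT : T.ShortExact)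
    (h : AcyclicInter V T.X₁) : (T.map (cechSheafFunctor V)).ShortExact := by
  have := hT.mono_f
  refine HomologicalComplex.shortExact_of_degreewise_shortExact _ fun n =>
    { exact := ?_, mono_f := ?_, epi_g := ?_ }
  · rw [ShortComplex.ab_exact_iff]
    intro s hs
    choose t ht using fun i : Fin (n + 1) → ι =>
      TopCat.Sheaf.sections_exact_of_left_exact hT.exact hT.mono_f _ (congrFun hs i)
    exact ⟨t, funext ht⟩
  · exact (AddCommGrpCat.mono_iff_injective _).2 fun a b h =>
      funext fun i => CovSystem.app_injective_of_mono T.f _ (congrFun h i)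
  · refine (AddCommGrpCat.epi_iff_surjective _).2 fun s => ?_
    choose t ht using fun i => sections_surjective_inter hT h i (s i)
    exact ⟨t, funext ht⟩

variable (V)

theorem cech_equiv_of_acyclicInter {F : CohTop.Ab X} (hF : AcyclicInter V F) (p : ℕ) :
    Nonempty ((cech V F.obj).homology p ≃+ CohTop.HU F p (iSup V)) := by
  induction p generalizing F with
  | zero =>
    exact ⟨(AddEquiv.ofBijective _ (toCechZero_bijective V F)).symm.trans (hu0 F _).symm⟩
  | succ p ih =>
    have hT := CovSystem.injSeq_shortExact F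
    have hC := cech_shortExact_inter hT hF
    have hzero : ∀ q, IsZero ((cech V (CovSystem.injSeq F).X₂.obj).homology (q + 1)) := fun q =>
      (exactAt_iff_isZero_homology _ _).1 (cechAcyclic_of_injective V (CovSystem.injSeq F).X₂ q)
    have hz : ∀ q, Subsingleton (CohTop.HU (CovSystem.injSeq F).X₂ (q + 1) (iSup V)) := fun q =>
      subsingleton_HU_injective _ q _
    have hs := fun q => huDelta_surjective hT q (iSup V) (hz q)
    cases p with
    | succ q =>
      obtain ⟨e⟩ := ih (acyclicInter_cokernel hT hF)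
      exact ⟨(hC.δIso (q + 1) (q + 2) rfl (hzero q) (hzero _)).symm.addCommGroupIsoToAddEquiv.trans
        (e.trans (AddEquiv.ofBijective (huDelta hT (q + 1) _)
          ⟨huDelta_injective hT _ _ (hz q), hs (q + 1)⟩))⟩
    | zero =>
      let T := CovSystem.injSeq F
      let Q := T.X₃
      let δC : (cech V Q.obj).homology 0 ⟶ (cech V F.obj).homology 1 := hC.δ 0 1 rfl
      let ψ₁ : Q.obj.obj (op (iSup V)) →+ (cech V F.obj).homology 1 :=
        (toCechZero V Q.obj ≫ δC).hom
      let ψ₂ : Q.obj.obj (op (iSup V)) →+ CohTop.HU F 1 (iSup V) :=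
        (huDelta hT 0 _).comp (hu0 Q _).symm.toAddMonoidHom
      have hex1 := (ShortComplex.ab_exact_iff _).1 (hC.homology_exact₁ 0 1 rfl)
      have hex3 := (ShortComplex.ab_exact_iff _).1 (hC.homology_exact₃ 0 1 rfl)
      have hψ₁ : Function.Surjective ψ₁ := fun x => by
        obtain ⟨y, rfl⟩ := hex1 x (ConcreteCategory.congr_hom
          ((hzero 0).eq_of_tgt (homologyMap (T.map (cechSheafFunctor V)).f 1) 0) x)
        obtain ⟨z, rfl⟩ := (toCechZero_bijective V Q).2 y
        exact ⟨z, rfl⟩
      have hψ₂ : Function.Surjective ψ₂ := (hs 0).comp (hu0 _ _).symm.surjective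
      have hker : ψ₁.ker = ψ₂.ker := by
        ext s
        rw [AddMonoidHom.mem_ker, AddMonoidHom.mem_ker]
        refine Iff.trans ⟨fun h => ?_, ?_⟩ (huDelta_zero_iff hT _ s).symm
        · obtain ⟨y, hy⟩ := hex3 _ h
          obtain ⟨t, rfl⟩ := (toCechZero_bijective V T.X₂).2 y
          exact ⟨t, (toCechZero_bijective V Q).1 ((ConcreteCategory.congr_hom
            (toCechZero_naturality V T.g.hom) t).trans hy)⟩
        · rintro ⟨t, rfl⟩
          refine (congrArg δC (ConcreteCategory.congr_hom
            (toCechZero_naturality V T.g.hom) t)).trans ?_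
          exact ConcreteCategory.congr_hom (hC.comp_δ 0 1 rfl) (toCechZero V _ t)
      exact ⟨((QuotientAddGroup.quotientKerEquivOfSurjective ψ₁ hψ₁).symm.trans
        (QuotientAddGroup.quotientAddEquivOfEq hker)).trans
        (QuotientAddGroup.quotientKerEquivOfSurjective ψ₂ hψ₂)⟩

/-- Sections lift if Cech H¹ of the kernel vanishes on refinements of every cover. -/
theorem sections_surjective_of_h1 {T : ShortComplex (CohTop.Ab X)} (hT : T.ShortExact) (U : Opens X)
    (h : ∀ (κ : Type u) (W : κ → Opens X), iSup W = U →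
      ∃ (μ : Type u) (V : μ → Opens X) (r : μ → κ), iSup V = U ∧ (∀ k, V k ≤ W (r k)) ∧
        (cech V T.X₁.obj).ExactAt 1) :
    Function.Surjective (T.g.hom.app (op U)) := by
  intro s
  have := (TopCat.Presheaf.isLocallySurjective_iff T.g.hom).mp
    ((CategoryTheory.Sheaf.isLocallySurjective_iff_epi' (φ := T.g)).mpr hT.epi_g) U s
  choose W hWU hlift hxW using fun x : U => this x.1 x.2
  choose t ht using hlift
  obtain ⟨μ, V, r, hV, hle, h1⟩ := h U W
    (le_antisymm (iSup_le hWU) fun x hx => Opens.mem_iSup.2 ⟨⟨x, hx⟩, hxW ⟨x, hx⟩⟩)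
  have hle' : ∀ {n : ℕ} (i : Fin (n + 1) → μ) (a : Fin (n + 1)),
      inter V i ≤ W (r (i a)) := fun i a => (iInf_le _ a).trans (hle _)
  let t' : cochain V T.X₂.obj (Fin 1) := fun i => QCohBase.res T.X₂.obj (hle' i 0) (t (r (i 0)))
  have hgt : ∀ i : Fin 1 → μ, T.g.hom.app _ (t' i) =
      QCohBase.res T.X₃.obj ((hle' i 0).trans (hWU _)) s := fun i => by
    rw [← nat_res T.X₂.obj T.g.hom, ht]
    exact res_res T.X₃.obj _ _ s
  have hg : ∀ i : Fin 2 → μ, T.g.hom.app _ (dCech V T.X₂.obj 0 t' i) = 0 := by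
    intro i
    simp only [dCech, map_sum, map_zsmul, ← nat_res T.X₂.obj T.g.hom, hgt, res_res]
    simp [Fin.sum_univ_two]
  choose c hc using fun i : Fin 2 → μ =>
    TopCat.Sheaf.sections_exact_of_left_exact hT.exact hT.mono_f _ (hg i)
  have := hT.mono_f
  have hcz : dCech V T.X₁.obj 1 c = 0 := by
    funext i
    apply CovSystem.app_injective_of_mono T.f
    rw [← congrFun (dCech_map V T.f.hom 1 c) i]
    refine Eq.trans ?_ (map_zero _).symm
    have hcc : (fun j => T.f.hom.app _ (c j)) = dCech V T.X₂.obj 0 t' := funext hc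
    rw [hcc, dCech_dCech]
    rfl
  obtain ⟨b, hb⟩ := (exactAt_succ_iff V T.X₁.obj 0).1 h1 c hcz
  let u : cochain V T.X₂.obj (Fin 1) := fun i => t' i - T.f.hom.app _ (b i)
  have hu : dCech V T.X₂.obj 0 u = 0 := by
    have h1 := congrFun (dCech_map V T.f.hom 0 b)
    funext i
    have : dCech V T.X₂.obj 0 u i = dCech V T.X₂.obj 0 t' i -
        dCech V T.X₂.obj 0 (fun j => T.f.hom.app _ (b j)) i := by
      simp [dCech, u, smul_sub, Finset.sum_sub_distrib]
    rw [this, h1, hb, hc, sub_self]
    rfl
  have hgu : ∀ i : Fin 1 → μ, T.g.hom.app _ (u i) =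
      QCohBase.res T.X₃.obj ((hle' i 0).trans (hWU _)) s := fun i => by
    have : T.g.hom.app _ (T.f.hom.app _ (b i)) = 0 := by
      rw [← ConcreteCategory.comp_apply, ← NatTrans.comp_app,
        ← ObjectProperty.FullSubcategory.comp_hom, T.zero]
      rfl
    simp only [u, map_sub, hgt, this, sub_zero]
  obtain ⟨v, hv⟩ := cocycle_zero_glue V T.X₂ hV u hu
  have hVU : ∀ k, V k ≤ U := fun k => (le_iSup V k).trans hV.le
  refine ⟨v, TopCat.Sheaf.eq_of_locally_eq' T.X₃ V U (fun k => homOfLE (hVU k))
    hV.ge _ _ fun k => ?_⟩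
  change QCohBase.res T.X₃.obj (hVU k) (T.g.hom.app _ v) = QCohBase.res T.X₃.obj (hVU k) s
  have hk : V k ≤ inter V (fun _ : Fin 1 => k) := le_iInf fun _ => le_rfl
  rw [nat_res T.X₂.obj T.g.hom, ← res_res T.X₂.obj ((iInf_le _ 0).trans (hVU k)) hk v,
    hv, ← nat_res T.X₂.obj T.g.hom, hgu, res_res]

end Groth.Agent.CohTopLib
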