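import Groth.Agent.CohTopLib.Basic

/-! # Cech acyclicity from surjective restrictions -/

set_option autoImplicit false
set_option backward.isDefEq.respectTransparency false

noncomputable section

universe u

open CategoryTheory Limits TopologicalSpace Opposite

namespace Groth.Agent.CohTopLib

open QCohBase

variable {X : TopCat.{u}} {ι : Type u} (U : ι → Opens X)

/-- the union of the family, as a type of its own -/
structure TraceCarrier : Type u where
  /-- the point -/
  val : X
  mem : val ∈ (iSup U : Opens X)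

/-- the topology generated by the members of the family, on their union -/
instance : TopologicalSpace (TraceCarrier U) :=
  TopologicalSpace.generateFrom (Set.range fun i => {y : TraceCarrier U | y.val ∈ U i})

/-- the union with the generated topology -/
abbrev traceSpace : TopCat.{u} := TopCat.of (TraceCarrier U)

/-- a member of the family, in the generated topology -/
def traceOpen (i : ι) : Opens (traceSpace U) :=
  ⟨{y : TraceCarrier U | y.val ∈ U i}, TopologicalSpace.GenerateOpen.basic _ ⟨i, rfl⟩⟩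

/-- the identity to the generated topology -/
def toTrace : TopCat.of (↥(iSup U : Opens X)) ⟶ traceSpace U :=
  TopCat.ofHom ⟨fun y => ⟨y.1, y.2⟩, continuous_generateFrom_iff.2 (by
    rintro _ ⟨i, rfl⟩
    exact (U i).2.preimage continuous_subtype_val)⟩

lemma exists_inter_le {V : Set (TraceCarrier U)} (hV : IsOpen V) (x : TraceCarrier U) (hx : x ∈ V) :
    ∃ (p : ℕ) (a : Fin (p + 1) → ι), x.1 ∈ inter U a ∧ ∀ y : TraceCarrier U, y.1 ∈ inter U a → y ∈ V := by
  have hV' : TopologicalSpace.GenerateOpen (Set.range fun i => {y : TraceCarrier U | y.val ∈ U i}) V := hV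
  clear hV
  induction hV' generalizing x with
  | basic s hs =>
    obtain ⟨i, rfl⟩ := hs
    exact ⟨0, fun _ => i, (mem_inter_iff U _ _).2 fun _ => hx, fun y hy => (mem_inter_iff U _ _).1 hy 0⟩
  | univ =>
    obtain ⟨i, hi⟩ := Opens.mem_iSup.1 x.mem
    exact ⟨0, fun _ => i, (mem_inter_iff U _ _).2 fun _ => hi, fun y _ => trivial⟩
  | inter s t _ _ ihs iht =>
    obtain ⟨p, a, ha, has⟩ := ihs x hx.1
    obtain ⟨q, b, hb, hbt⟩ := iht x hx.2
    let c : Fin (p + 1 + q + 1) → ι := Fin.append a b ∘ Fin.cast (by omega)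
    refine ⟨p + 1 + q, c, (mem_inter_iff U _ _).2 fun k => ?_, fun y hy => ⟨has y ((mem_inter_iff U _ _).2 fun k => ?_),
      hbt y ((mem_inter_iff U _ _).2 fun k => ?_)⟩⟩
    · simp only [c, Function.comp_apply]
      generalize Fin.cast _ k = k'
      induction k' using Fin.addCases with
      | left k' => rw [Fin.append_left]; exact (mem_inter_iff U _ _).1 ha k'
      | right k' => rw [Fin.append_right]; exact (mem_inter_iff U _ _).1 hb k'
    · have := (mem_inter_iff U _ _).1 hy (Fin.cast (by omega) (Fin.castAdd (q + 1) k))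
      simpa [c] using this
    · have := (mem_inter_iff U _ _).1 hy (Fin.cast (by omega) (Fin.natAdd (p + 1) k))
      simpa [c] using this
  | sUnion S _ ih =>
    obtain ⟨s, hs, hxs⟩ := hx
    obtain ⟨p, a, ha, has⟩ := ih s hs x hxs
    exact ⟨p, a, ha, fun y hy => ⟨s, hs, has y hy⟩⟩

variable (F : CohTop.Ab X)

/-- the sheaf on the generated topology -/
def traceSheaf : CohTop.Ab (traceSpace U) :=
  (CohTop.push (toTrace U)).obj (CohTop.restr F (iSup U))

/-- the open of `X` under an open of the generated topology -/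
def under (V : Opens (traceSpace U)) : Opens X :=
  (iSup U : Opens X).isOpenEmbedding.isOpenMap.functor.obj ((Opens.map (toTrace U)).obj V)

lemma mem_under (V : Opens (traceSpace U)) (x : X) :
    x ∈ under U V ↔ ∃ h : x ∈ (iSup U : Opens X), (⟨x, h⟩ : TraceCarrier U) ∈ V := by
  constructor
  · rintro ⟨y, hy, rfl⟩
    exact ⟨y.2, hy⟩
  · rintro ⟨h, hV⟩
    exact ⟨⟨x, h⟩, hV, rfl⟩

lemma under_mono {V W : Opens (traceSpace U)} (h : W ≤ V) : under U W ≤ under U V := fun x hx =>
  (mem_under U V x).2 ⟨((mem_under U W x).1 hx).1, h ((mem_under U W x).1 hx).2⟩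

lemma traceSheaf_res {V W : Opens (traceSpace U)} (h : W ≤ V) (h' : under U W ≤ under U V)
    (s : (traceSheaf U F).obj.obj (op V)) :
    QCohBase.res (traceSheaf U F).obj h s = QCohBase.res F.obj h' (s : F.obj.obj (op (under U V))) := rfl

lemma res_surjective
    (h : ∀ (κ : Type u) (a : κ → Σ p : ℕ, Fin (p + 1) → ι),
      Function.Surjective (F.obj.map (homOfLE
        (iSup_le fun k => (iInf_le _ ⟨0, Nat.succ_pos _⟩).trans (le_iSup U ((a k).2 ⟨0, Nat.succ_pos _⟩)) :
          (⨆ k, ⨅ j, U ((a k).2 j)) ≤ iSup U)).op)) (V : Opens (traceSpace U)) (hV : under U V ≤ iSup U) :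
    Function.Surjective (QCohBase.res F.obj hV) := fun s => by
    let κ : Type u := {a : Σ p : ℕ, Fin (p + 1) → ι // ∀ y : traceSpace U, y.1 ∈ inter U a.2 → y ∈ V}
    have e : under U V = ⨆ k : κ, ⨅ j, U (k.1.2 j) := by
      refine le_antisymm (fun x hx => ?_) (iSup_le fun k x hx => ?_)
      · obtain ⟨hx', hxV⟩ := (mem_under U V x).1 hx
        obtain ⟨p, a, ha, hav⟩ := exists_inter_le U V.2 ⟨x, hx'⟩ hxV
        exact Opens.mem_iSup.2 ⟨⟨⟨p, a⟩, hav⟩, ha⟩
      · have hx' : x ∈ (iSup U : Opens X) :=
          ((iInf_le (fun j => U (k.1.2 j)) 0).trans (le_iSup U (k.1.2 0))) hx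
        exact (mem_under U V x).2 ⟨hx', k.2 ⟨x, hx'⟩ hx⟩
    obtain ⟨t, ht⟩ := h κ (fun k => k.1) (QCohBase.res F.obj e.ge s)
    refine ⟨t, ?_⟩
    have := congrArg (QCohBase.res F.obj e.le) ht
    exact ((res_res F.obj (e.ge.trans hV) e.le t).symm.trans this).trans
      ((res_res F.obj e.ge e.le s).trans (res_refl _ _ _))

lemma isFlasque_traceSheaf
    (hsurj : ∀ (V : Opens (traceSpace U)) (hV : under U V ≤ iSup U), Function.Surjective (QCohBase.res F.obj hV)) :
    TopCat.Sheaf.IsFlasque (traceSheaf U F) := ⟨fun {V' W'} f => by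
    obtain ⟨V⟩ := V'
    obtain ⟨W⟩ := W'
    refine (AddCommGrpCat.epi_iff_surjective _).2 fun s => ?_
    have hW : under U W ≤ iSup U := fun x hx => ((mem_under U W x).1 hx).1
    obtain ⟨t, ht⟩ := hsurj W hW s
    have hV : under U V ≤ iSup U := fun x hx => ((mem_under U V x).1 hx).1
    refine ⟨QCohBase.res F.obj hV t, ?_⟩
    exact (res_res F.obj hV
      (fun x hx => (mem_under U V x).2 ⟨((mem_under U W x).1 hx).1, f.unop.le ((mem_under U W x).1 hx).2⟩) t).trans ht⟩

lemma under_inter (n : ℕ) (a : Fin (n + 1) → ι) : under U (inter (fun i => traceOpen U i) a) = inter U a := by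
    refine le_antisymm (fun x hx => ?_) (fun x hx => ?_)
    · obtain ⟨h', hV⟩ := (mem_under U _ x).1 hx
      exact (mem_inter_iff U a x).2 fun j => (mem_inter_iff (fun i => traceOpen U i) a _).1 hV j
    · refine (mem_under U _ x).2 ⟨(iInf_le (fun j => U (a j)) 0).trans (le_iSup U (a 0)) hx,
        (mem_inter_iff (fun i => traceOpen U i) a _).2 fun j => (mem_inter_iff U a x).1 hx j⟩

/-- Čech acyclicity when sections extend from unions of intersections. -/
theorem cechAcyclic_of_surjective
    (h : ∀ (κ : Type u) (a : κ → Σ p : ℕ, Fin (p + 1) → ι),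
      Function.Surjective (F.obj.map (homOfLE
        (iSup_le fun k => (iInf_le _ ⟨0, Nat.succ_pos _⟩).trans (le_iSup U ((a k).2 ⟨0, Nat.succ_pos _⟩)) :
          (⨆ k, ⨅ j, U ((a k).2 j)) ≤ iSup U)).op)) :
    CechAcyclic U F.obj := by
  haveI := isFlasque_traceSheaf U F (res_surjective U F h)
  let U' : ι → Opens (traceSpace U) := fun i => traceOpen U i
  have hac := FlasqueAcyclic.cechAcyclic_of_isFlasque U' (traceSheaf U F)
  intro p
  have hu : ∀ (n : ℕ) (a : Fin (n + 1) → ι), under U (inter U' a) = inter U a := under_inter U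
  rw [exactAt_succ_iff]
  intro s hs
  let s' : cochain U' (traceSheaf U F).obj (Fin (p + 2)) := fun a => QCohBase.res F.obj (hu _ a).le (s a)
  have hs' : dCech U' (traceSheaf U F).obj (p + 1) s' = 0 := funext fun a => by
    have := congrArg (QCohBase.res F.obj (hu _ a).le) (congrFun hs a)
    simp only [dCech, map_sum, map_zsmul, Pi.zero_apply, map_zero, res_res] at this
    simp only [dCech, s']
    refine Eq.trans (Finset.sum_congr rfl fun k _ => congrArg ((-1 : ℤ) ^ (k : ℕ) • ·) ?_) this
    exact (traceSheaf_res U F _ (under_mono U (inter_comp_le U' a k.succAbove)) _).trans (res_res F.obj _ _ _)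
  obtain ⟨t', ht'⟩ := (exactAt_succ_iff U' (traceSheaf U F).obj p).1 (hac p) s' hs'
  refine ⟨fun a => QCohBase.res F.obj (hu _ a).ge (t' a), funext fun a => ?_⟩
  have h1 := congrArg (QCohBase.res F.obj (hu _ a).ge) (congrFun ht' a)
  simp only [dCech, s', map_sum, map_zsmul] at h1
  simp only [dCech, res_res]
  refine Eq.trans (Finset.sum_congr rfl fun k _ => congrArg ((-1 : ℤ) ^ (k : ℕ) • ·) ?_)
    (h1.trans ((res_res F.obj _ _ _).trans (res_refl _ _ _)))
  exact (res_res F.obj _ _ _).symm

end Groth.Agent.CohTopLib
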