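import Groth.Agent.CohTopLib.Functors
import Mathlib.Algebra.Homology.ShortComplex.ExactFunctor
import Mathlib.CategoryTheory.Adjunction.FullyFaithful

/-!
# Direct image along a closed embedding
-/

noncomputable section

universe u

open CategoryTheory Limits TopologicalSpace Opposite

namespace Groth.Agent.CohTopLib

open QCohBase

variable {X Y : TopCat.{u}}

/-- The map to the direct image of families of germs. -/
def toPushPi (f : X ⟶ Y) (F : CohTop.Ab Y) :
    F ⟶ (CohTop.push f).obj (piSheaf fun x => TopCat.Presheaf.stalk F.obj (f x)) :=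
  ⟨{ app := fun V => AddCommGrpCat.ofHom
      { toFun := fun s x => TopCat.Presheaf.germ F.obj V.unop (f x.1) x.2 s
        map_zero' := funext fun _ => map_zero _
        map_add' := fun _ _ => funext fun _ => map_add _ _ _ }
     naturality := by
      intro V W g
      refine AddCommGrpCat.ext fun s => funext fun x => ?_
      exact TopCat.Presheaf.germ_res_apply F.obj g.unop (f x.1) x.2 s }⟩

lemma germ_eq_zero_of_isZero_pull (f : X ⟶ Y) {F : CohTop.Ab Y} (h : IsZero ((CohTop.pull f).obj F))
    (x : X) (V : Opens Y) (hx : f x ∈ V) (s : F.obj.obj (op V)) :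
    TopCat.Presheaf.germ F.obj V (f x) hx s = 0 := by
  let adj := TopCat.Sheaf.pullbackPushforwardAdjunction AddCommGrpCat.{u} f
  have h1 : toPushPi f F = 0 := by
    refine (adj.homEquiv F _).symm.injective ?_
    exact h.eq_of_src _ _
  exact congrFun (ConcreteCategory.congr_hom
    (congrArg (fun m : F ⟶ _ => m.hom.app (op V)) h1) s) ⟨x, hx⟩

lemma isZero_of_germ {F : CohTop.Ab X}
    (h : ∀ (V : Opens X) (s : F.obj.obj (op V)) (x : X) (hx : x ∈ V),
      TopCat.Presheaf.germ F.obj V x hx s = 0) : IsZero F := by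
  refine (IsZero.iff_id_eq_zero F).2 (CategoryTheory.Sheaf.hom_ext (NatTrans.ext (funext fun V => ?_)))
  refine AddCommGrpCat.ext fun s => ?_
  refine TopCat.Presheaf.section_ext F V.unop _ _ fun x hx => ?_
  exact (h V.unop s x hx).trans (map_zero _).symm

lemma sections_bijective_of_preimage_eq {f : X ⟶ Y} (F : CohTop.Ab X) {W W' : Opens Y} (h : W ≤ W')
    (e : (Opens.map f).obj W = (Opens.map f).obj W') :
    Function.Bijective (QCohBase.res ((CohTop.push f).obj F).obj h) :=
  (secCongr F e.symm).bijective

section Closed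

variable {f : X ⟶ Y} (hf : Topology.IsClosedEmbedding f)

include hf in
theorem push_closed_full_faithful : (CohTop.push f).Full ∧ (CohTop.push f).Faithful := by
  let top : Opens X → Opens Y := fun U => ⟨(f '' (U : Set X)ᶜ)ᶜ, (hf.isClosedMap _ U.2.isClosed_compl).isOpen_compl⟩
  have hpre : ∀ U, (Opens.map f).obj (top U) = U := fun U => by
    ext x
    change f x ∉ f '' (U : Set X)ᶜ ↔ x ∈ U
    rw [hf.injective.mem_set_image]
    exact not_not
  have hmax : ∀ (W : Opens Y), W ≤ top ((Opens.map f).obj W) := fun W y hy => by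
    rintro ⟨x, hx, rfl⟩
    exact hx hy
  have hmono : ∀ {U U' : Opens X}, U ≤ U' → top U ≤ top U' := fun h y hy => by
    rintro ⟨x, hx, rfl⟩
    exact hy ⟨x, fun h' => hx (h h'), rfl⟩
  constructor
  swap
  · refine ⟨fun {F G} φ ψ h => CategoryTheory.Sheaf.hom_ext (NatTrans.ext (funext fun U => ?_))⟩
    refine AddCommGrpCat.ext fun s => ?_
    obtain ⟨t, rfl⟩ := (secCongr F (hpre U.unop)).surjective s
    refine (secCongr_nat φ (hpre U.unop) t).trans (Eq.trans ?_ (secCongr_nat ψ (hpre U.unop) t).symm)
    exact congrArg (secCongr G (hpre U.unop)) (ConcreteCategory.congr_hom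
      (congrArg (fun m : (CohTop.push f).obj F ⟶ (CohTop.push f).obj G => m.hom.app (op (top U.unop))) h) t)
  · refine ⟨fun {F G} φ => ?_⟩
    let ψ : F ⟶ G := ⟨{
      app := fun U => AddCommGrpCat.ofHom
        ((secCongr G (hpre U.unop)).toAddMonoidHom.comp
          ((φ.hom.app (op (top U.unop))).hom.comp (secCongr F (hpre U.unop)).symm.toAddMonoidHom))
      naturality := fun U U' g => by
        refine AddCommGrpCat.ext fun s => ?_
        obtain ⟨t, rfl⟩ := (secCongr F (hpre U.unop)).surjective s
        have hle : top U'.unop ≤ top U.unop := hmono g.unop.le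
        have h1 : F.obj.map g (secCongr F (hpre U.unop) t) =
            secCongr F (hpre U'.unop) (QCohBase.res ((CohTop.push f).obj F).obj hle t) :=
          (res_res F.obj _ g.unop.le t).trans
            (res_res F.obj ((Opens.map f).map (homOfLE hle)).le _ t).symm
        change secCongr G (hpre U'.unop) (φ.hom.app (op (top U'.unop))
            ((secCongr F (hpre U'.unop)).symm (F.obj.map g (secCongr F (hpre U.unop) t)))) =
          G.obj.map g (secCongr G (hpre U.unop) (φ.hom.app (op (top U.unop))
            ((secCongr F (hpre U.unop)).symm (secCongr F (hpre U.unop) t))))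
        rw [h1, AddEquiv.symm_apply_apply, AddEquiv.symm_apply_apply,
          ← nat_res ((CohTop.push f).obj F).obj φ.hom hle t]
        exact (res_res G.obj ((Opens.map f).map (homOfLE hle)).le _ _).trans
          (res_res G.obj _ g.unop.le _).symm }⟩
    refine ⟨ψ, CategoryTheory.Sheaf.hom_ext (NatTrans.ext (funext fun W => ?_))⟩
    refine AddCommGrpCat.ext fun s => ?_
    have hW := hmax W.unop
    have he : (Opens.map f).obj W.unop = (Opens.map f).obj (top ((Opens.map f).obj W.unop)) :=
      (hpre _).symm
    obtain ⟨t, rfl⟩ := (sections_bijective_of_preimage_eq F hW he).2 s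
    change secCongr G (hpre ((Opens.map f).obj W.unop)) (φ.hom.app _
        ((secCongr F (hpre ((Opens.map f).obj W.unop))).symm
          (QCohBase.res ((CohTop.push f).obj F).obj hW t))) =
      φ.hom.app W (QCohBase.res ((CohTop.push f).obj F).obj hW t)
    have h2 : QCohBase.res ((CohTop.push f).obj F).obj hW t =
        secCongr F (hpre ((Opens.map f).obj W.unop)) t := rfl
    refine Eq.trans (congrArg (fun z => secCongr G (hpre ((Opens.map f).obj W.unop))
      (φ.hom.app _ z)) ((congrArg _ h2).trans ((secCongr F (hpre ((Opens.map f).obj W.unop))).symm_apply_apply t))) ?_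
    exact nat_res ((CohTop.push f).obj F).obj φ.hom hW t

include hf in
theorem isIso_counit :
    IsIso (TopCat.Sheaf.pullbackPushforwardAdjunction AddCommGrpCat.{u} f).counit := by
  obtain ⟨hF, hf'⟩ := push_closed_full_faithful hf
  exact @Adjunction.counit_isIso_of_R_fully_faithful _ _ _ _ _ _
    (TopCat.Sheaf.pullbackPushforwardAdjunction AddCommGrpCat.{u} f) hF hf'

include hf in
theorem preservesFiniteColimits_push : PreservesFiniteColimits (CohTop.push f) :=
  have h : PreservesFiniteLimits (CohTop.push f) ∧ PreservesFiniteColimits (CohTop.push f) :=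
    ((CohTop.push f).exact_tfae.out 0 3).1 fun _ hS => shortExact_push_closed hf hS
  h.2

include hf in
lemma germ_eq_zero_outside {F : CohTop.Ab X} (y : Y) (hy : y ∉ Set.range f) (V : Opens Y) (hyV : y ∈ V)
    (s : ((CohTop.push f).obj F).obj.obj (op V)) :
    TopCat.Presheaf.germ ((CohTop.push f).obj F).obj V y hyV s = 0 := by
  let W : Opens Y := ⟨(Set.range f)ᶜ, hf.isClosed_range.isOpen_compl⟩ ⊓ V
  have : Subsingleton (((CohTop.push f).obj F).obj.obj (op W)) :=
    subsingleton_sections_bot F fun z hz => hz.1 ⟨z, rfl⟩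
  refine (TopCat.Presheaf.germ_res_apply ((CohTop.push f).obj F).obj (homOfLE inf_le_right : W ⟶ V)
    y ⟨hy, hyV⟩ s).symm.trans ?_
  rw [this.elim (((CohTop.push f).obj F).obj.map _ s) 0, map_zero]

include hf in
theorem essImage_push_closed (F : CohTop.Ab Y) :
    (CohTop.push f).essImage F ↔ ∀ y : Y, y ∉ Set.range f → IsZero (CohTop.stalk F y) := by
  constructor
  · rintro ⟨G, ⟨e⟩⟩ y hy
    refine IsZero.of_iso ?_
      ((TopCat.Presheaf.stalkFunctor AddCommGrpCat.{u} y).mapIso
        ((sheafToPresheaf _ _).mapIso e.symm))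
    refine @AddCommGrpCat.isZero_of_subsingleton _ ⟨fun a b => ?_⟩
    obtain ⟨U, hU, s, rfl⟩ := TopCat.Presheaf.exists_germ_eq _ a
    obtain ⟨V, hV, t, rfl⟩ := TopCat.Presheaf.exists_germ_eq _ b
    exact (germ_eq_zero_outside hf y hy U hU s).trans (germ_eq_zero_outside hf y hy V hV t).symm
  · intro h
    let adj := TopCat.Sheaf.pullbackPushforwardAdjunction AddCommGrpCat.{u} f
    let η : F ⟶ (CohTop.push f).obj ((CohTop.pull f).obj F) := adj.unit.app F
    haveI := isIso_counit hf
    have hη : IsIso ((CohTop.pull f).map η) := by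
      have h1 : (CohTop.pull f).map η ≫ adj.counit.app _ = 𝟙 _ := adj.left_triangle_components F
      exact @IsIso.of_isIso_fac_right _ _ _ _ _ _ _ _ (@NatIso.isIso_app_of_isIso _ _ _ _ _ _ _ (isIso_counit hf) _) inferInstance h1
    have key : ∀ (K : CohTop.Ab Y), IsZero ((CohTop.pull f).obj K) →
        (∀ y, y ∉ Set.range f → ∀ (V : Opens Y) (hy : y ∈ V) (s : K.obj.obj (op V)),
          TopCat.Presheaf.germ K.obj V y hy s = 0) → IsZero K := fun K hK hout =>
      isZero_of_germ fun V s y hy => by
        by_cases hr : y ∈ Set.range f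
        · obtain ⟨x, rfl⟩ := hr
          exact germ_eq_zero_of_isZero_pull f hK x V hy s
        · exact hout y hr V hy s
    haveI := preservesFiniteLimits_pull f
    haveI := preservesFiniteColimits_pull f
    have hout : ∀ y, y ∉ Set.range f → ∀ (V : Opens Y) (hy : y ∈ V) (s : F.obj.obj (op V)),
        TopCat.Presheaf.germ F.obj V y hy s = 0 := fun y hy V hyV s =>
      (AddCommGrpCat.subsingleton_of_isZero (h y hy)).elim _ _
    haveI : Mono η := by
      refine Preadditive.mono_of_kernel_zero ((key _ ?_ fun y hy V hyV s => ?_).eq_of_src _ _)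
      · exact IsZero.of_iso (isZero_kernel_of_mono ((CohTop.pull f).map η))
          (PreservesKernel.iso (CohTop.pull f) η)
      · have := @TopCat.Presheaf.stalk_mono_of_mono _ _ _ _ _ _ _ _ _ _ _ _ _ _ (kernel.ι η) equalizer.ι_mono y
        apply (AddCommGrpCat.mono_iff_injective _).1 this
        refine Eq.trans ?_ (map_zero _).symm
        exact (TopCat.Presheaf.stalkFunctor_map_germ_apply V y hyV (kernel.ι η).hom s).trans
          (hout y hy V hyV _)
    haveI : Epi η := by
      refine Preadditive.epi_of_cokernel_zero ((key _ ?_ fun y hy V hyV s => ?_).eq_of_tgt _ _)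
      · exact IsZero.of_iso (isZero_cokernel_of_epi ((CohTop.pull f).map η))
          (PreservesCokernel.iso (CohTop.pull f) η)
      · obtain ⟨W, hWV, ⟨t, ht⟩, hyW⟩ := (TopCat.Presheaf.isLocallySurjective_iff _).mp
          ((CategoryTheory.Sheaf.isLocallySurjective_iff_epi' (φ := cokernel.π η)).mpr inferInstance) V s y hyV
        refine (TopCat.Presheaf.germ_res_apply (cokernel η).obj (homOfLE hWV) y hyW s).symm.trans ?_
        refine (congrArg _ ht.symm).trans ?_
        refine (TopCat.Presheaf.stalkFunctor_map_germ_apply W y hyW (cokernel.π η).hom t).symm.trans ?_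
        refine (congrArg _ (germ_eq_zero_outside hf y hy W hyW t)).trans ?_
        exact map_zero _
    haveI : IsIso η := isIso_of_mono_of_epi η
    exact ⟨_, ⟨(asIso η).symm⟩⟩

include hf in
theorem push_closed_props :
    PreservesFiniteColimits (CohTop.push f) ∧ (CohTop.push f).Full ∧ (CohTop.push f).Faithful ∧
      (∀ F : CohTop.Ab Y, (CohTop.push f).essImage F ↔
        ∀ y : Y, y ∉ Set.range f → IsZero (CohTop.stalk F y)) ∧
      Nonempty (CohTop.push f ⋙ CohTop.pull f ≅ 𝟭 (CohTop.Ab X)) :=
  ⟨preservesFiniteColimits_push hf, (push_closed_full_faithful hf).1,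
    (push_closed_full_faithful hf).2, essImage_push_closed hf,
    ⟨@asIso _ _ _ _ _ (isIso_counit hf)⟩⟩

end Closed

end Groth.Agent.CohTopLib
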