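import Groth.Agent.CohTopLib.Basic

/-!
# Global cohomology, and comparison of cohomology along a functor exact on a class
-/

noncomputable section

universe u

open CategoryTheory Limits TopologicalSpace Opposite

namespace Groth.Agent.CohTopLib

open QCohBase

variable {X Y : TopCat.{u}}

/-- Two objects corepresenting the same functor compatibly are isomorphic. -/
lemma exists_iso_of_homEquiv {C : Type*} [Category C] {A B : C}
    (e : ∀ F : C, (A ⟶ F) ≃ (B ⟶ F))
    (he : ∀ {F G : C} (φ : A ⟶ F) (f : F ⟶ G), e G (φ ≫ f) = e F φ ≫ f) :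
    ∃ a : B ≅ A, ∀ (F : C) (φ : A ⟶ F), e F φ = a.hom ≫ φ := by
  have h : ∀ (F : C) (φ : A ⟶ F), e F φ = e A (𝟙 A) ≫ φ := fun F φ =>
    (congrArg (e F) (Category.id_comp φ).symm).trans (he (𝟙 A) φ)
  refine ⟨⟨e A (𝟙 A), (e B).symm (𝟙 B), ?_, ?_⟩, h⟩
  · exact (h B ((e B).symm (𝟙 B))).symm.trans ((e B).apply_symm_apply _)
  · apply (e A).injective
    rw [he, (e B).apply_symm_apply, Category.id_comp]

/-- The constant sheaf with value `ℤ`. -/
abbrev constZ (X : TopCat.{u}) : CohTop.Ab X :=
  (constantSheaf (Opens.grothendieckTopology X) AddCommGrpCat.{u}).obj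
    (AddCommGrpCat.of (ULift.{u} ℤ))

lemma exists_iso_free_top : ∃ a : free (⊤ : Opens X) ≅ constZ X,
    ∀ (F : CohTop.Ab X) (φ : constZ X ⟶ F),
      secHom F ⊤ (a.hom ≫ φ) = CovSystem.hZero F (Abelian.Ext.mk₀ φ) := by
  let e : ∀ F : CohTop.Ab X, (constZ X ⟶ F) ≃ (free (⊤ : Opens X) ⟶ F) := fun F =>
    ((Abelian.Ext.addEquiv₀.symm.trans (CovSystem.hZero F)).trans (secEquiv F ⊤).symm).toEquiv
  have hsec : ∀ (F : CohTop.Ab X) (φ : constZ X ⟶ F),
      secHom F ⊤ (e F φ) = CovSystem.hZero F (Abelian.Ext.mk₀ φ) := fun F φ =>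
    (secEquiv F ⊤).apply_symm_apply _
  obtain ⟨a, ha⟩ := exists_iso_of_homEquiv e (fun {F G} φ f => by
    apply (secHom_bijective G ⊤).1
    refine (hsec G (φ ≫ f)).trans ?_
    refine Eq.trans ?_ (congrArg (f.hom.app (op ⊤)) (hsec F φ)).symm
    refine Eq.trans (congrArg (CovSystem.hZero G) ?_)
      (CategoryTheory.Sheaf.H.equiv₀_naturality isTerminalTop f (Abelian.Ext.mk₀ φ)).symm
    exact (Abelian.Ext.mk₀_comp_mk₀ φ f).symm)
  exact ⟨a, fun F φ => (congrArg (secHom F ⊤) (ha F φ).symm).trans (hsec F φ)⟩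

/-- Global cohomology is cohomology over the whole space. -/
def hTopEquiv (F : CohTop.Ab X) (n : ℕ) : CohTop.H F n ≃+ CohTop.HU F n ⊤ where
  toFun x := Abelian.Ext.comp (Abelian.Ext.mk₀ (exists_iso_free_top (X := X)).choose.hom) x (zero_add n)
  invFun x := Abelian.Ext.comp (Abelian.Ext.mk₀ (exists_iso_free_top (X := X)).choose.inv) x (zero_add n)
  left_inv x := by
    change Abelian.Ext.comp _ (Abelian.Ext.comp _ x _) _ = x
    rw [Abelian.Ext.mk₀_comp_mk₀_assoc, Iso.inv_hom_id, Abelian.Ext.mk₀_id_comp]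
  right_inv x := by
    change Abelian.Ext.comp _ (Abelian.Ext.comp _ x _) _ = x
    rw [Abelian.Ext.mk₀_comp_mk₀_assoc, Iso.hom_inv_id, Abelian.Ext.mk₀_id_comp]
  map_add' _ _ := Abelian.Ext.comp_add _ _ _ _

lemma subsingleton_H_iff (F : CohTop.Ab X) (n : ℕ) :
    Subsingleton (CohTop.H F n) ↔ Subsingleton (CohTop.HU F n ⊤) :=
  ⟨fun _ => (hTopEquiv F n).symm.injective.subsingleton,
    fun _ => (hTopEquiv F n).injective.subsingleton⟩

section Compare

variable (G : CohTop.Ab X ⥤ CohTop.Ab Y) (U : Opens X) (V : Opens Y)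
  (e : ∀ F : CohTop.Ab X, F.obj.obj (op U) ≃+ (G.obj F).obj.obj (op V))
  (he : ∀ {F F' : CohTop.Ab X} (f : F ⟶ F') (s : F.obj.obj (op U)),
    (G.map f).hom.app (op V) (e F s) = e F' (f.hom.app (op U) s))
  (P : CohTop.Ab X → Prop)

/-- A class of sheaves closed under cokernels in injectives, on which `G` is exact. -/
structure GoodClass [G.PreservesZeroMorphisms] : Prop where
  coker : ∀ {T : ShortComplex (CohTop.Ab X)}, T.ShortExact → P T.X₁ → Injective T.X₂ → P T.X₃
  exact : ∀ {T : ShortComplex (CohTop.Ab X)}, T.ShortExact → P T.X₁ → Injective T.X₂ →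
    (T.map G).ShortExact
  acyclic : ∀ (I : CohTop.Ab X), Injective I → ∀ n : ℕ,
    Subsingleton (CohTop.HU (G.obj I) (n + 1) V)

variable {G U V P}

include e he in
/-- Cohomology is preserved by a functor which is exact on a good class and preserves sections. -/
theorem nonempty_HU_equiv [G.PreservesZeroMorphisms] (hP : GoodClass G V P) {F : CohTop.Ab X}
    (hF : P F) (n : ℕ) : Nonempty (CohTop.HU F n U ≃+ CohTop.HU (G.obj F) n V) := by
  induction n generalizing F with
  | zero => exact ⟨((hu0 F U).trans (e F)).trans (hu0 (G.obj F) V).symm⟩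
  | succ p ih =>
    let T := CovSystem.injSeq F
    have hT : T.ShortExact := CovSystem.injSeq_shortExact F
    have hI : Injective T.X₂ := inferInstanceAs (Injective (CovSystem.injSeq F).X₂)
    have hT' : (T.map G).ShortExact := hP.exact hT hF hI
    have hz : ∀ m, Subsingleton (CohTop.HU (T.map G).X₂ (m + 1) V) := hP.acyclic _ hI
    have hs : ∀ m, Function.Surjective (huDelta hT m U) := fun m =>
      huDelta_surjective hT m U (subsingleton_HU_injective _ m U)
    have hs' : ∀ m, Function.Surjective (huDelta hT' m V) := fun m =>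
      huDelta_surjective hT' m V (hz m)
    cases p with
    | succ q =>
      obtain ⟨g⟩ := ih (hP.coker hT hF hI)
      exact ⟨(AddEquiv.ofBijective (huDelta hT (q + 1) U)
          ⟨huDelta_injective hT _ U (subsingleton_HU_injective _ q U), hs _⟩).symm.trans
        (g.trans (AddEquiv.ofBijective (huDelta hT' (q + 1) V)
          ⟨huDelta_injective hT' _ V (hz q), hs' _⟩))⟩
    | zero =>
      let ψ₁ : T.X₃.obj.obj (op U) →+ CohTop.HU F 1 U :=
        (huDelta hT 0 U).comp (hu0 T.X₃ U).symm.toAddMonoidHom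
      let ψ₂ : T.X₃.obj.obj (op U) →+ CohTop.HU (G.obj F) 1 V :=
        ((huDelta hT' 0 V).comp (hu0 (T.map G).X₃ V).symm.toAddMonoidHom).comp
          (e T.X₃).toAddMonoidHom
      have h₁ : Function.Surjective ψ₁ := (hs 0).comp (hu0 _ U).symm.surjective
      have h₂ : Function.Surjective ψ₂ :=
        ((hs' 0).comp (hu0 _ V).symm.surjective).comp (e T.X₃).surjective
      have hker : ψ₁.ker = ψ₂.ker := by
        ext s
        rw [AddMonoidHom.mem_ker, AddMonoidHom.mem_ker]
        refine (huDelta_zero_iff hT U s).trans (Iff.trans ?_ (huDelta_zero_iff hT' V (e T.X₃ s)).symm)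
        constructor
        · rintro ⟨t, rfl⟩
          exact ⟨e T.X₂ t, he T.g t⟩
        · rintro ⟨t, ht⟩
          refine ⟨(e T.X₂).symm t, (e T.X₃).injective ((he T.g _).symm.trans ?_)⟩
          rw [AddEquiv.apply_symm_apply]
          exact ht
      exact ⟨((QuotientAddGroup.quotientKerEquivOfSurjective ψ₁ h₁).symm.trans
        (QuotientAddGroup.quotientAddEquivOfEq hker)).trans
        (QuotientAddGroup.quotientKerEquivOfSurjective ψ₂ h₂)⟩

/-- For an exact functor every sheaf is in the good class. -/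
lemma goodClass_of_exact [G.Additive] [PreservesFiniteLimits G] [PreservesFiniteColimits G]
    (hfl : ∀ (I : CohTop.Ab X), TopCat.Sheaf.IsFlasque I → TopCat.Sheaf.IsFlasque (G.obj I)) :
    GoodClass G V (fun _ => True) where
  coker _ _ _ := trivial
  exact hT _ _ := hT.map_of_exact G
  acyclic I _ n :=
    haveI := hfl I (FlasqueAcyclic.isFlasque_of_injective I)
    subsingleton_HU_of_isFlasque _ V n

end Compare

end Groth.Agent.CohTopLib
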