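import Groth.Agent.CohTopLib.Compare
import Mathlib.CategoryTheory.Sites.Pullback
import Mathlib.CategoryTheory.Preadditive.Injective.Basic

/-!
# Restriction to opens, direct images, closed embeddings
-/

noncomputable section

universe u

open CategoryTheory Limits TopologicalSpace Opposite

namespace Groth.Agent.CohTopLib

open QCohBase

variable {X Y : TopCat.{u}}

attribute [local instance] reflectsLimits_of_reflectsIsomorphisms in
set_option synthInstance.maxHeartbeats 200000 in
instance preservesFiniteLimits_pull (f : X ⟶ Y) : PreservesFiniteLimits (CohTop.pull f) := by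
  apply +allowSynthFailures Functor.sheafPullbackConstruction.preservesFiniteLimits

instance preservesFiniteColimits_pull (f : X ⟶ Y) : PreservesFiniteColimits (CohTop.pull f) :=
  have : PreservesColimitsOfSize.{u, u} (CohTop.pull f) :=
    (TopCat.Sheaf.pullbackPushforwardAdjunction AddCommGrpCat.{u} f).leftAdjoint_preservesColimits
  PreservesColimits.preservesFiniteColimits _

instance preservesFiniteLimits_push (f : X ⟶ Y) : PreservesFiniteLimits (CohTop.push f) :=
  inferInstanceAs (PreservesFiniteLimits (QCohBase.pushSh f))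

lemma injective_push (f : X ⟶ Y) (I : CohTop.Ab X) [Injective I] :
    Injective ((CohTop.push f).obj I) :=
  haveI := preservesFiniteLimits_pull f
  haveI : (CohTop.pull f).PreservesMonomorphisms :=
    @CategoryTheory.preservesMonomorphisms_of_preservesLimitsOfShape _ _ _ _ (CohTop.pull f)
      (PreservesFiniteLimits.preservesFiniteLimits _)
  @Injective.injective_of_adjoint _ _ _ _ (CohTop.pull f) (CohTop.push f) (by assumption)
    (TopCat.Sheaf.pullbackPushforwardAdjunction AddCommGrpCat.{u} f) I _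

/-- Restriction to an open is inverse image along the inclusion. -/
def pullIsoRestr (U : Opens X) :
    CohTop.pull (TopCat.ofHom ⟨((↑) : U → X), continuous_subtype_val⟩ : TopCat.of U ⟶ X) ≅
      CohTop.restrFunctor U :=
  Topology.IsOpenEmbedding.sheafPullbackIso AddCommGrpCat.{u} U.isOpenEmbedding'

instance preservesFiniteLimits_restr (U : Opens X) : PreservesFiniteLimits (CohTop.restrFunctor U) :=
  @preservesFiniteLimits_of_natIso _ _ _ _ _ _ (pullIsoRestr U) (preservesFiniteLimits_pull _)

instance preservesFiniteColimits_restr (U : Opens X) :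
    PreservesFiniteColimits (CohTop.restrFunctor U) :=
  @preservesFiniteColimits_of_natIso _ _ _ _ _ _ (pullIsoRestr U) (preservesFiniteColimits_pull _)

lemma isFlasque_restr (U : Opens X) (F : CohTop.Ab X) [TopCat.Sheaf.IsFlasque F] :
    TopCat.Sheaf.IsFlasque (CohTop.restr F U) :=
  ⟨fun i => TopCat.Presheaf.IsFlasque.epi (F := F.obj) _⟩

/-- Equal opens have the same sections. -/
def secCongr (F : CohTop.Ab X) {U V : Opens X} (h : U = V) :
    F.obj.obj (op U) ≃+ F.obj.obj (op V) where
  toFun := QCohBase.res F.obj h.ge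
  invFun := QCohBase.res F.obj h.le
  left_inv s := (res_res F.obj _ _ s).trans (res_refl F.obj _ s)
  right_inv s := (res_res F.obj _ _ s).trans (res_refl F.obj _ s)
  map_add' := map_add _

lemma secCongr_nat {F G : CohTop.Ab X} (f : F ⟶ G) {U V : Opens X} (h : U = V)
    (s : F.obj.obj (op U)) :
    f.hom.app (op V) (secCongr F h s) = secCongr G h (f.hom.app (op U) s) :=
  (nat_res F.obj f.hom h.ge s).symm

theorem nonempty_HU_restr (F : CohTop.Ab X) (U : Opens X) (n : ℕ) :
    Nonempty (CohTop.HU F n U ≃+ CohTop.H (CohTop.restr F U) n) := by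
  have hU : U = (U.isOpenEmbedding.isOpenMap.functor).obj ⊤ :=
    (Opens.ext (Set.image_univ.trans Subtype.range_coe)).symm
  obtain ⟨e⟩ := nonempty_HU_equiv (G := CohTop.restrFunctor U) (U := U) (V := ⊤)
    (fun F => secCongr F hU) (fun f s => secCongr_nat f hU s)
    (goodClass_of_exact fun I hI => isFlasque_restr U I) (P := fun _ => True) (F := F) trivial n
  exact ⟨e.trans (hTopEquiv _ n).symm⟩

lemma subsingleton_sections_bot (F : CohTop.Ab X) {U : Opens X} (hU : ∀ x, x ∉ U) :
    Subsingleton (F.obj.obj (op U)) :=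
  ⟨fun a b => TopCat.Sheaf.eq_of_locally_eq' F (PEmpty.elim : PEmpty.{u + 1} → Opens X) U
    (fun k => k.elim) (fun x hx => absurd hx (hU x)) a b fun k => k.elim⟩

lemma epi_push_map {f : X ⟶ Y} (hf : Topology.IsClosedEmbedding f) {F G : CohTop.Ab X}
    (g : F ⟶ G) [Epi g] : Epi ((CohTop.push f).map g) := by
  refine (CategoryTheory.Sheaf.isLocallySurjective_iff_epi' (φ := (CohTop.push f).map g)).1 ?_
  refine (TopCat.Presheaf.isLocallySurjective_iff ((CohTop.push f).map g).hom).2 fun V s y hy => ?_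
  by_cases hyr : y ∈ Set.range f
  · obtain ⟨x, rfl⟩ := hyr
    obtain ⟨U, hU, ⟨t, ht⟩, hxU⟩ := (TopCat.Presheaf.isLocallySurjective_iff g.hom).mp
      ((CategoryTheory.Sheaf.isLocallySurjective_iff_epi' (φ := g)).mpr inferInstance) _ s x hy
    obtain ⟨W, hWo, hW⟩ := hf.isInducing.isOpen_iff.1 U.2
    let W' : Opens Y := ⟨W, hWo⟩ ⊓ V
    have hle : (Opens.map f).obj W' ≤ U := fun z hz => by
      have : z ∈ f ⁻¹' W := hz.1
      rw [hW] at this
      exact this
    refine ⟨W', fun z hz => hz.2, ⟨QCohBase.res F.obj hle t, ?_⟩, ⟨?_, hy⟩⟩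
    · refine (nat_res F.obj g.hom hle t).symm.trans ?_
      refine (congrArg (QCohBase.res G.obj hle) ht).trans ?_
      exact res_res G.obj hU hle s
    · have : x ∈ f ⁻¹' W := hW.symm ▸ hxU
      exact this
  · let W' : Opens Y := ⟨(Set.range f)ᶜ, hf.isClosed_range.isOpen_compl⟩ ⊓ V
    have : Subsingleton (G.obj.obj (op ((Opens.map f).obj W'))) :=
      subsingleton_sections_bot G fun z hz => hz.1 ⟨z, rfl⟩
    exact ⟨W', fun z hz => hz.2, ⟨0, this.elim _ _⟩, ⟨hyr, hy⟩⟩

lemma shortExact_push_closed {f : X ⟶ Y} (hf : Topology.IsClosedEmbedding f)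
    {T : ShortComplex (CohTop.Ab X)} (hT : T.ShortExact) : (T.map (CohTop.push f)).ShortExact :=
  haveI := hT.epi_g
  QCohBase.shortExact_push f hT (epi_push_map hf T.g)

theorem nonempty_H_push_closed {f : X ⟶ Y} (hf : Topology.IsClosedEmbedding f) (F : CohTop.Ab X)
    (n : ℕ) : Nonempty (CohTop.H F n ≃+ CohTop.H ((CohTop.push f).obj F) n) := by
  have hP : GoodClass (CohTop.push f) (⊤ : Opens Y) (fun _ => True) :=
    { coker := fun _ _ _ => trivial
      exact := fun hT _ _ => shortExact_push_closed hf hT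
      acyclic := fun I hI m =>
        haveI := FlasqueAcyclic.isFlasque_of_injective I
        haveI : TopCat.Sheaf.IsFlasque ((CohTop.push f).obj I) :=
          TopCat.Sheaf.IsFlasque.pushforward_isFlasque I f
        subsingleton_HU_of_isFlasque _ _ m }
  obtain ⟨e⟩ := nonempty_HU_equiv (G := CohTop.push f) (U := ⊤) (V := ⊤)
    (fun F => AddEquiv.refl _) (fun _ _ => rfl) hP (F := F) trivial n
  exact ⟨(hTopEquiv F n).trans (e.trans (hTopEquiv _ n).symm)⟩

theorem isZero_Rpush_closed {f : X ⟶ Y} (hf : Topology.IsClosedEmbedding f) (F : CohTop.Ab X)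
    (n : ℕ) : IsZero ((CohTop.Rpush f (n + 1)).obj F) :=
  isZero_rightDerived_obj_of_class (CohTop.push f) (fun _ => True) (fun _ _ => trivial)
    (fun _ _ _ => trivial) (fun hT _ => haveI := hT.epi_g; epi_push_map hf _) trivial n

theorem exists_cover_res_eq_zero (F : CohTop.Ab X) (U : Opens X) (n : ℕ)
    (ξ : CohTop.HU F (n + 1) U) (x : X) (hx : x ∈ U) :
    ∃ (V : Opens X) (hV : V ≤ U), x ∈ V ∧ CohTop.res F (n + 1) hV ξ = 0 := by
  induction n generalizing F with
  | zero =>
    have hT := CovSystem.injSeq_shortExact F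
    obtain ⟨y, rfl⟩ := huDelta_surjective hT 0 U (subsingleton_HU_injective _ 0 U) ξ
    obtain ⟨s, rfl⟩ := (hu0 (CovSystem.injSeq F).X₃ U).symm.surjective y
    obtain ⟨V, hV, ⟨t, ht⟩, hxV⟩ := (TopCat.Presheaf.isLocallySurjective_iff _).mp
      ((CategoryTheory.Sheaf.isLocallySurjective_iff_epi' (φ := (CovSystem.injSeq F).g)).mpr
        hT.epi_g) U s x hx
    refine ⟨V, hV, hxV, ?_⟩
    refine (huDelta_res hT 0 hV _).trans ?_
    refine Eq.trans (congrArg (huDelta hT 0 V) ?_) ((huDelta_zero_iff hT V _).2 ⟨t, ht⟩)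
    refine (hu0 (CovSystem.injSeq F).X₃ V).injective ?_
    rw [hu0_res, AddEquiv.apply_symm_apply, AddEquiv.apply_symm_apply]
    rfl
  | succ n ih =>
    have hT := CovSystem.injSeq_shortExact F
    obtain ⟨y, rfl⟩ := huDelta_surjective hT (n + 1) U (subsingleton_HU_injective _ _ U) ξ
    obtain ⟨V, hV, hxV, hy⟩ := ih (CovSystem.injSeq F).X₃ y
    exact ⟨V, hV, hxV, (huDelta_res hT (n + 1) hV y).trans ((congrArg _ hy).trans (map_zero _))⟩

end Groth.Agent.CohTopLib
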