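import Groth.Prelude.Def_CohCx
import Groth.Agent.CohTopLib.Basic
import Groth.Agent.CohTopLib.DerivedHom

/-!
# Hypercohomology presheaves of K-injective complexes
-/

noncomputable section

universe w u

open CategoryTheory Limits TopologicalSpace Opposite DerivedCategory

namespace Groth.Agent.CohTopLib

section

variable {X : TopCat.{u}} [HasDerivedCategory.{w} (CohTop.Ab X)]
  (L : CochainComplex (CohTop.Ab X) ℤ)

/-- The complex of presheaves underlying a complex of sheaves. -/
abbrev preZ : CochainComplex ((Opens X)ᵒᵖ ⥤ AddCommGrpCat.{u}) ℤ :=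
  ((sheafToPresheaf (Opens.grothendieckTopology X) AddCommGrpCat.{u}).mapHomologicalComplex _).obj L

lemma exists_zMor (V : Opens X) (z : ((preZ L).cycles 0).obj (op V)) :
    ∃ φ : free V ⟶ L.X 0, secHom _ V φ = ((preZ L).iCycles 0).app (op V) z ∧
      φ ≫ L.d 0 1 = 0 := by
  obtain ⟨φ, hφ⟩ := (secHom_bijective (L.X 0) V).2 (((preZ L).iCycles 0).app (op V) z)
  refine ⟨φ, hφ, (secHom_bijective (L.X 1) V).1 ?_⟩
  refine (congrArg ((L.d 0 1).hom.app (op V)) hφ).trans ?_
  exact (ConcreteCategory.congr_hom (congrArg (fun m => NatTrans.app m (op V))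
    ((preZ L).iCycles_d 0 1)) z).trans (map_zero _).symm

/-- A choice of map out of the free sheaf for a cycle. -/
def zMor (V : Opens X) (z : ((preZ L).cycles 0).obj (op V)) : free V ⟶ L.X 0 :=
  (exists_zMor L V z).choose

lemma secHom_zMor (V : Opens X) (z : ((preZ L).cycles 0).obj (op V)) :
    secHom _ V (zMor L V z) = ((preZ L).iCycles 0).app (op V) z :=
  (exists_zMor L V z).choose_spec.1

lemma zMor_d (V : Opens X) (z : ((preZ L).cycles 0).obj (op V)) : zMor L V z ≫ L.d 0 1 = 0 :=
  (exists_zMor L V z).choose_spec.2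

lemma dOf_congr {V : Opens X} {f g : free V ⟶ L.X 0} (hf : f ≫ L.d 0 1 = 0) (hg : g ≫ L.d 0 1 = 0)
    (h : secHom _ V f = secHom _ V g) : dOf f hf = dOf g hg := by
  obtain rfl := (secHom_bijective _ V).1 h
  rfl

/-- The class of a cycle. -/
def zClass (V : Opens X) : ((preZ L).cycles 0).obj (op V) →+ CohCx.HDU (Q.obj L) 0 V :=
  AddMonoidHom.mk' (fun z => dOf (zMor L V z) (zMor_d L V z)) fun a b => by
    have hab : (zMor L V a + zMor L V b) ≫ L.d 0 1 = 0 := by
      rw [Preadditive.add_comp, zMor_d, zMor_d, add_zero]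
    refine Eq.trans (dOf_congr L (zMor_d L V (a + b)) hab ?_)
      (dOf_add _ _ (zMor_d L V a) (zMor_d L V b) hab)
    rw [map_add, secHom_zMor, secHom_zMor, secHom_zMor, map_add]
    rfl

lemma zClass_res {V W : Opens X} (hle : W ≤ V) (z : ((preZ L).cycles 0).obj (op V)) :
    zClass L W (((preZ L).cycles 0).map (homOfLE hle).op z) =
      (singleFunctor (CohTop.Ab X) 0).map (freeMap hle) ≫ zClass L V z := by
  have h' : (freeMap hle ≫ zMor L V z) ≫ L.d 0 1 = 0 := by
    rw [Category.assoc, zMor_d, comp_zero]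
  refine Eq.trans ?_ (map_comp_dOf (freeMap hle) _ (zMor_d L V z) h').symm
  refine dOf_congr L (zMor_d L _ _) _ ?_
  rw [secHom_zMor, secHom_freeMap, secHom_zMor]
  exact ConcreteCategory.congr_hom (((preZ L).iCycles 0).naturality (homOfLE hle).op) z

lemma zClass_toCycles (V : Opens X) (x : (L.X (-1)).obj.obj (op V)) :
    zClass L V (((preZ L).toCycles (-1) 0).app (op V) x) = 0 := by
  obtain ⟨g, hg⟩ := (secHom_bijective (L.X (-1)) V).2 x
  have h : (g ≫ L.d (-1) 0) ≫ L.d 0 1 = 0 := by rw [Category.assoc, L.d_comp_d, comp_zero]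
  refine Eq.trans (dOf_congr L (zMor_d L V _) h ?_) (dOf_eq_zero_of_boundary g h)
  rw [secHom_zMor]
  refine Eq.trans ?_ (congrArg ((L.d (-1) 0).hom.app (op V)) hg).symm
  exact ConcreteCategory.congr_hom (congrArg (fun m => NatTrans.app m (op V))
    ((preZ L).toCycles_i (-1) 0)) x

lemma zClass_surjective [L.IsKInjective] (V : Opens X) : Function.Surjective (zClass L V) := by
  intro α
  obtain ⟨φ, hφ, rfl⟩ := dOf_surjective α
  have hS : (ShortComplex.mk ((preZ L).iCycles 0) ((preZ L).d 0 1)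
      ((preZ L).iCycles_d 0 1)).Exact :=
    ShortComplex.exact_of_f_is_kernel _ ((preZ L).cyclesIsKernel 0 1 (by simp))
  obtain ⟨z, hz⟩ := (ShortComplex.ab_exact_iff _).1
    (hS.map ((evaluation (Opens X)ᵒᵖ AddCommGrpCat.{u}).obj (op V))) (secHom _ V φ)
    (congrArg (secHom (L.X 1) V) hφ)
  exact ⟨z, dOf_congr L (zMor_d L V z) hφ ((secHom_zMor L V z).trans hz)⟩

lemma zClass_eq_zero [L.IsKInjective] (V : Opens X) (z : ((preZ L).cycles 0).obj (op V))
    (hz : zClass L V z = 0) : ∃ x, ((preZ L).toCycles (-1) 0).app (op V) x = z := by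
  have hi : Function.Injective (((preZ L).iCycles 0).app (op V)) :=
    (AddCommGrpCat.mono_iff_injective _).1 (NatTrans.mono_iff_mono_app _ |>.1 inferInstance (op V))
  obtain ⟨g, hg⟩ := exists_boundary_of_dOf_eq_zero _ (zMor_d L V z) hz
  refine ⟨secHom _ V g, hi ?_⟩
  refine Eq.trans ?_ (secHom_zMor L V z)
  rw [← hg]
  exact ConcreteCategory.congr_hom (congrArg (fun m => NatTrans.app m (op V))
    ((preZ L).toCycles_i (-1) 0)) (secHom _ V g)

/-- A natural family of maps out of cycles with kernel the boundaries computes homology. -/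
lemma exists_homology_iso (A : (Opens X)ᵒᵖ ⥤ AddCommGrpCat.{u})
    (Φ : ∀ V : Opens X, ((preZ L).cycles 0).obj (op V) →+ A.obj (op V))
    (hnat : ∀ {V W : Opens X} (hle : W ≤ V) (z : ((preZ L).cycles 0).obj (op V)),
      Φ W (((preZ L).cycles 0).map (homOfLE hle).op z) = A.map (homOfLE hle).op (Φ V z))
    (hsurj : ∀ V, Function.Surjective (Φ V))
    (hker : ∀ V z, Φ V z = 0 ↔ ∃ x, ((preZ L).toCycles (-1) 0).app (op V) x = z) :
    Nonempty ((preZ L).homology 0 ≅ A) := by
  let φ : (preZ L).cycles 0 ⟶ A :=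
    { app := fun V => AddCommGrpCat.ofHom (Φ V.unop)
      naturality := fun V W g => AddCommGrpCat.ext fun z => hnat (leOfHom g.unop) z }
  have h0 : (preZ L).toCycles (-1) 0 ≫ φ = 0 := by
    ext V x
    exact (hker V.unop _).2 ⟨x, rfl⟩
  let hc := (preZ L).homologyIsCokernel (-1) 0 (by simp)
  let ψ := CokernelCofork.IsColimit.desc' hc φ h0
  have hψ : ∀ V, Function.Bijective (ψ.1.app V) := by
    intro V
    have hπ : Function.Surjective (((preZ L).homologyπ 0).app V) :=
      (AddCommGrpCat.epi_iff_surjective _).1 (NatTrans.epi_iff_epi_app _ |>.1 inferInstance V)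
    have hcomp : ∀ z, ψ.1.app V (((preZ L).homologyπ 0).app V z) = Φ V.unop z := fun z =>
      ConcreteCategory.congr_hom (congrArg (fun m => NatTrans.app m V) ψ.2) z
    constructor
    · refine (injective_iff_map_eq_zero _).2 fun a ha => ?_
      obtain ⟨z, rfl⟩ := hπ a
      obtain ⟨x, rfl⟩ := (hker V.unop z).1 ((hcomp z).symm.trans ha)
      exact ConcreteCategory.congr_hom (congrArg (fun m => NatTrans.app m V)
        ((preZ L).toCycles_comp_homologyπ (-1) 0)) x
    · intro a
      obtain ⟨z, rfl⟩ := hsurj V.unop a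
      exact ⟨_, hcomp z⟩
  have : ∀ V, IsIso (ψ.1.app V) := fun V => (ConcreteCategory.isIso_iff_bijective _).2 (hψ V)
  have : IsIso ψ.1 := NatIso.isIso_of_isIso_app _
  exact ⟨asIso ψ.1⟩

/-- The section of `H⁰` attached to a degree zero hypercohomology class. -/
def secOf (Z : DerivedCategory (CohTop.Ab X)) (V : Opens X) :
    CohCx.HDU Z 0 V →+ (CohCx.HD Z 0).obj.obj (op V) :=
  AddMonoidHom.mk'
    (fun ξ => secHom _ V
      ((singleFunctorCompHomologyFunctorIso (CohTop.Ab X) 0).inv.app (free V) ≫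
        (homologyFunctor (CohTop.Ab X) 0).map (ξ ≫ (shiftFunctorZero _ ℤ).hom.app Z)))
    fun a b => by
      refine Eq.trans ?_ (map_add (secHom (CohCx.HD Z 0) V) _ _)
      rw [← Preadditive.comp_add, ← Functor.map_add, ← Preadditive.add_comp]

lemma secOf_res (Z : DerivedCategory (CohTop.Ab X)) {V W : Opens X} (hle : W ≤ V)
    (ξ : CohCx.HDU Z 0 V) :
    secOf Z W ((singleFunctor (CohTop.Ab X) 0).map (freeMap hle) ≫ ξ) =
      (CohCx.HD Z 0).obj.map (homOfLE hle).op (secOf Z V ξ) := by
  refine Eq.trans ?_ (secHom_freeMap (F := CohCx.HD Z 0) hle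
      ((singleFunctorCompHomologyFunctorIso (CohTop.Ab X) 0).inv.app (free V) ≫
        (homologyFunctor (CohTop.Ab X) 0).map (ξ ≫ (shiftFunctorZero _ ℤ).hom.app Z)))
  change secHom (CohCx.HD Z 0) W
    ((singleFunctorCompHomologyFunctorIso (CohTop.Ab X) 0).inv.app (free W) ≫
      (homologyFunctor (CohTop.Ab X) 0).map (((singleFunctor (CohTop.Ab X) 0).map (freeMap hle) ≫ ξ) ≫
        (shiftFunctorZero _ ℤ).hom.app Z)) = _
  refine congrArg (secHom (CohCx.HD Z 0) W) ?_
  rw [Category.assoc, Functor.map_comp]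
  refine (Category.assoc _ _ _).symm.trans ?_
  refine (congrArg (· ≫ _)
    ((singleFunctorCompHomologyFunctorIso (CohTop.Ab X) 0).inv.naturality (freeMap hle)).symm).trans ?_
  exact Category.assoc _ _ _

lemma secOf_bijective (Z : DerivedCategory (CohTop.Ab X)) [Z.IsGE 0] (V : Opens X) :
    Function.Bijective (secOf Z V) := by
  have hc : Function.Bijective (fun ξ : (singleFunctor (CohTop.Ab X) 0).obj (free V) ⟶
      (shiftFunctor (DerivedCategory (CohTop.Ab X)) (0 : ℤ)).obj Z =>
      ξ ≫ (shiftFunctorZero (DerivedCategory (CohTop.Ab X)) ℤ).hom.app Z) :=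
    (((shiftFunctorZero (DerivedCategory (CohTop.Ab X)) ℤ).app Z).homToEquiv).bijective
  exact (secHom_bijective _ V).comp ((homology_map_bijective (A := free V) Z).comp hc)

/-- For a K-injective complex in nonnegative degrees, degree zero homology of sections is the
sheaf `H⁰`. -/
theorem nonempty_homology_iso_HD [L.IsKInjective] [(Q.obj L).IsGE 0] :
    Nonempty ((preZ L).homology 0 ≅ (CohCx.HD (Q.obj L) 0).obj) := by
  refine exists_homology_iso L _ (fun V => (secOf (Q.obj L) V).comp (zClass L V)) ?_ ?_ ?_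
  · intro V W hle z
    exact (congrArg (secOf (Q.obj L) W) (zClass_res L hle z)).trans (secOf_res _ hle _)
  · exact fun V => (secOf_bijective _ V).2.comp (zClass_surjective L V)
  · intro V z
    refine ⟨fun h => zClass_eq_zero L V z ((secOf_bijective (Q.obj L) V).1
      (h.trans (map_zero (secOf (Q.obj L) V)).symm)), ?_⟩
    rintro ⟨x, rfl⟩
    exact (congrArg (secOf (Q.obj L) V) (zClass_toCycles L V x)).trans (map_zero _)

end

section

variable {X : TopCat.{u}} [HasDerivedCategory.{u} (CohTop.Ab X)]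
  (L : CochainComplex (CohTop.Ab X) ℤ)

/-- For a K-injective complex, hypercohomology is the homology of the complex of sections. -/
theorem nonempty_hduIso [L.IsKInjective] :
    Nonempty ((preZ L).homology 0 ≅ CohCx.HDUPresheaf (Q.obj L) 0) :=
  exists_homology_iso L _ (fun V => zClass L V) (fun {_ _} hle z => zClass_res L hle z)
    (zClass_surjective L)
    fun V z => ⟨zClass_eq_zero L V z, by rintro ⟨x, rfl⟩; exact zClass_toCycles L V x⟩

end

end Groth.Agent.CohTopLib
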