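import Groth.Agent.CohTopLib.Functors
import Groth.Agent.RDerLES.LES
import Mathlib.Topology.Category.TopCat.Adjunctions
import Mathlib.CategoryTheory.Sites.LocallyInjective

/-!
# Godement's first step, constant sheaves on irreducible spaces, degenerate Leray
-/

noncomputable section

universe u

open CategoryTheory Limits TopologicalSpace Opposite

namespace Groth.Agent.CohTopLib

open QCohBase

variable {X Y : TopCat.{u}}

theorem mono_unit_of_piSheaf (f : X ⟶ Y) (F : CohTop.Ab Y) (A : X → AddCommGrpCat.{u})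
    (h : F ⟶ (CohTop.push f).obj (piSheaf A)) (hh : Mono h) :
    Mono ((TopCat.Sheaf.pullbackPushforwardAdjunction AddCommGrpCat.{u} f).unit.app F) := by
  let adj := TopCat.Sheaf.pullbackPushforwardAdjunction AddCommGrpCat.{u} f
  have : adj.unit.app F ≫ (CohTop.push f).map ((adj.homEquiv F (piSheaf A)).symm h) = h :=
    ((adj.homEquiv_unit _ _ _).symm).trans ((adj.homEquiv F (piSheaf A)).apply_symm_apply h)
  exact @mono_of_mono_fac _ _ _ _ _ _ _ _ hh this

theorem mono_unit_discrete (F : CohTop.Ab X) :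
    Mono ((TopCat.Sheaf.pullbackPushforwardAdjunction AddCommGrpCat.{u}
      (TopCat.adj₁.counit.app X)).unit.app F) :=
  @mono_unit_of_piSheaf _ _ (TopCat.adj₁.counit.app X) F (fun x => TopCat.Presheaf.stalk F.obj x)
    (toGodement F) (inferInstanceAs (Mono (toGodement F)))

theorem isFlasque_of_discrete [DiscreteTopology X] (F : CohTop.Ab X) : TopCat.Sheaf.IsFlasque F := by
  refine ⟨fun {U V} i => (AddCommGrpCat.epi_iff_surjective _).2 fun s => ?_⟩
  have hle : V.unop ≤ U.unop := i.unop.le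
  let W : Bool → Opens X := fun b => if b then V.unop else ⟨(U.unop : Set X) \ V.unop, isOpen_discrete _⟩
  have hW : ∀ b, W b ≤ U.unop := by
    rintro (_ | _)
    exacts [fun x hx => hx.1, hle]
  let sf : ∀ b, F.obj.obj (op (W b)) := fun b =>
    match b with
    | true => s
    | false => 0
  have hdis : ∀ b c, b ≠ c → ∀ x, x ∉ (W b ⊓ W c : Opens X) := by
    rintro (_ | _) (_ | _) hbc x ⟨h1, h2⟩
    exacts [hbc rfl, h1.2 h2, h2.2 h1, hbc rfl]
  have hcompat : TopCat.Presheaf.IsCompatible F.obj W sf := fun b c => by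
    by_cases hbc : b = c
    · subst hbc; rfl
    · exact (subsingleton_sections_bot F (hdis b c hbc)).elim _ _
  obtain ⟨t, ht, -⟩ := TopCat.Sheaf.existsUnique_gluing' F W U.unop (fun b => homOfLE (hW b))
    (fun x hx => by
      by_cases hxV : x ∈ V.unop
      · exact Opens.mem_iSup.2 ⟨true, hxV⟩
      · exact Opens.mem_iSup.2 ⟨false, hx, hxV⟩) sf hcompat
  exact ⟨t, ht true⟩

theorem godement_first_step (F : CohTop.Ab X) :
    Mono ((TopCat.Sheaf.pullbackPushforwardAdjunction AddCommGrpCat.{u}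
      (TopCat.adj₁.counit.app X)).unit.app F) ∧
    TopCat.Sheaf.IsFlasque ((CohTop.push (TopCat.adj₁.counit.app X)).obj
      ((CohTop.pull (TopCat.adj₁.counit.app X)).obj F)) :=
  ⟨mono_unit_discrete F,
    haveI : DiscreteTopology (TopCat.discrete.obj ((forget TopCat.{u}).obj X)) := ⟨rfl⟩
    haveI := isFlasque_of_discrete
      (X := TopCat.discrete.obj ((forget TopCat.{u}).obj X)) ((CohTop.pull (TopCat.adj₁.counit.app X)).obj F)
    TopCat.Sheaf.IsFlasque.pushforward_isFlasque _ _⟩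

theorem isFlasque_const [IrreducibleSpace X] (A : Type u) [AddCommGroup A] :
    TopCat.Sheaf.IsFlasque (CohTop.const X A) := by
  refine ⟨fun {U V} i => (AddCommGrpCat.epi_iff_surjective _).2 fun s => ?_⟩
  let P : (Opens X)ᵒᵖ ⥤ AddCommGrpCat.{u} := (Functor.const _).obj (AddCommGrpCat.of A)
  let η := toSheafify (Opens.grothendieckTopology X) P
  by_cases hV : ∃ x, x ∈ V.unop
  swap
  · push Not at hV
    exact ⟨0, (subsingleton_sections_bot _ hV).elim _ _⟩
  obtain ⟨x₀, hx₀⟩ := hV
  have hsur := (TopCat.Presheaf.isLocallySurjective_iff η).1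
    (Presheaf.isLocallySurjective_toSheafify' (Opens.grothendieckTopology X) P) V.unop s
  choose W hWV hlift hxW using fun x : V.unop => hsur x.1 x.2
  choose a ha using hlift
  have heq : ∀ x y : V.unop, (a x : A) = a y := fun x y => by
    have hne : ((W x : Set X) ∩ W y).Nonempty :=
      nonempty_preirreducible_inter (W x).2 (W y).2 ⟨_, hxW x⟩ ⟨_, hxW y⟩
    obtain ⟨z, hz⟩ := hne
    have hh : η.app (op (W x ⊓ W y)) (a x) = η.app (op (W x ⊓ W y)) (a y) := by
      have key : ∀ w : V.unop, ∀ h : W x ⊓ W y ≤ W w, η.app (op (W x ⊓ W y)) (a w) =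
          QCohBase.res (CohTop.const X A).obj (h.trans (hWV w)) s := fun w h =>
        (ConcreteCategory.congr_hom (η.naturality (homOfLE h).op) (a w)).trans
          ((congrArg (QCohBase.res (CohTop.const X A).obj h) (ha w)).trans
            (res_res (CohTop.const X A).obj (hWV w) h s))
      exact (key x inf_le_left).trans (key y inf_le_right).symm
    obtain ⟨Z, g, hg, -⟩ := Presheaf.equalizerSieve_mem (Opens.grothendieckTopology X) η
      (X := op (W x ⊓ W y)) (a x) (a y) hh z hz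
    exact hg
  refine ⟨η.app U (a ⟨x₀, hx₀⟩), ?_⟩
  refine (ConcreteCategory.congr_hom (η.naturality i) (a ⟨x₀, hx₀⟩)).symm.trans ?_
  refine TopCat.Sheaf.eq_of_locally_eq' (CohTop.const X A) W V.unop (fun w => homOfLE (hWV w))
    (fun x hx => Opens.mem_iSup.2 ⟨⟨x, hx⟩, hxW ⟨x, hx⟩⟩) _ _ fun w => ?_
  refine ((ConcreteCategory.congr_hom (η.naturality (homOfLE (hWV w)).op) (a ⟨x₀, hx₀⟩)).symm.trans ?_)
  exact (congrArg (η.app (op (W w))) (heq ⟨x₀, hx₀⟩ w)).trans (ha w)

theorem epi_push_of_isZero (f : X ⟶ Y) {T : ShortComplex (CohTop.Ab X)} (hT : T.ShortExact)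
    (h : IsZero ((CohTop.Rpush f 1).obj T.X₁)) : Epi ((CohTop.push f).map T.g) := by
  have he : Epi (((CohTop.push f).rightDerived 0).map T.g) :=
    ((RDerLES.derivedLES (CohTop.push f)).exact₃ T hT 0 1 rfl).epi_f (h.eq_of_tgt _ _)
  have hn := (CohTop.push f).rightDerivedZeroIsoSelf.hom.naturality T.g
  have : Epi ((CohTop.push f).rightDerivedZeroIsoSelf.hom.app T.X₂ ≫ (CohTop.push f).map T.g) := by
    rw [← hn]; exact epi_comp _ _
  exact epi_of_epi ((CohTop.push f).rightDerivedZeroIsoSelf.hom.app T.X₂) _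

theorem nonempty_H_push_of_acyclic (f : X ⟶ Y) (F : CohTop.Ab X)
    (h : ∀ q : ℕ, IsZero ((CohTop.Rpush f (q + 1)).obj F)) (p : ℕ) :
    Nonempty (CohTop.H F p ≃+ CohTop.H ((CohTop.push f).obj F) p) := by
  have hP : GoodClass (CohTop.push f) (⊤ : Opens Y)
      (fun G => ∀ q : ℕ, IsZero ((CohTop.Rpush f (q + 1)).obj G)) :=
    { coker := fun {T} hT h1 hI q =>
        ((RDerLES.derivedLES (CohTop.push f)).exact₃ T hT (q + 1) (q + 1 + 1) rfl).isZero_of_both_zeros
          ((haveI := hI; (CohTop.push f).isZero_rightDerived_obj_injective_succ q T.X₂).eq_of_src _ _)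
          ((h1 (q + 1)).eq_of_tgt _ _)
      exact := fun hT h1 _ => QCohBase.shortExact_push f hT (epi_push_of_isZero f hT (h1 0))
      acyclic := fun I hI m =>
        haveI := hI
        haveI := injective_push f I
        subsingleton_HU_injective _ m ⊤ }
  obtain ⟨e⟩ := nonempty_HU_equiv (G := CohTop.push f) (U := ⊤) (V := ⊤)
    (fun F => AddEquiv.refl _) (fun _ _ => rfl) hP (F := F) h p
  exact ⟨(hTopEquiv F p).trans (e.trans (hTopEquiv _ p).symm)⟩

theorem isFlasque_middle (S : ShortComplex (CohTop.Ab X)) (hS : S.ShortExact)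
    (h1 : TopCat.Sheaf.IsFlasque S.X₁) (h3 : TopCat.Sheaf.IsFlasque S.X₃) :
    TopCat.Sheaf.IsFlasque S.X₂ := by
  refine ⟨fun {U V} i => (AddCommGrpCat.epi_iff_surjective _).2 fun s => ?_⟩
  have hle : V.unop ≤ U.unop := i.unop.le
  obtain ⟨r, hr⟩ := (AddCommGrpCat.epi_iff_surjective _).1 (h3.epi i) (S.g.hom.app V s)
  obtain ⟨t, ht⟩ := FlasqueAcyclic.sections_surjective_of_isFlasque hS U.unop r
  have h0 : S.g.hom.app V (s - S.X₂.obj.map i t) = 0 := by
    rw [map_sub, sub_eq_zero]
    exact hr.symm.trans ((congrArg (S.X₃.obj.map i) ht).symm.trans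
      (ConcreteCategory.congr_hom (S.g.hom.naturality i) t).symm)
  obtain ⟨a, ha⟩ := TopCat.Sheaf.sections_exact_of_left_exact hS.exact hS.mono_f _ h0
  obtain ⟨b, rfl⟩ := (AddCommGrpCat.epi_iff_surjective _).1 (h1.epi i) a
  refine ⟨t + S.f.hom.app U b, ?_⟩
  rw [map_add]
  refine Eq.trans ?_ (add_sub_cancel (S.X₂.obj.map i t) s)
  exact congrArg (S.X₂.obj.map i t + ·)
    ((ConcreteCategory.congr_hom (S.f.hom.naturality i) b).symm.trans ha)

end Groth.Agent.CohTopLib
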