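import Groth.Agent.CohTopLib.HDUPre
import Groth.Agent.CohTopLib.Closed
import Groth.Agent.Resolve.Resolution
import Groth.Agent.DerCat.KInjLib

/-!
# Negative hypercohomology over preimages of opens
-/

noncomputable section

universe u

open CategoryTheory Limits TopologicalSpace Opposite DerivedCategory

namespace Groth.Agent.CohTopLib

variable {X Y : TopCat.{u}} (f : X ⟶ Y)

/-- Direct image of complexes. -/
abbrev pushCx : CochainComplex (CohTop.Ab X) ℤ ⥤ CochainComplex (CohTop.Ab Y) ℤ :=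
  (CohTop.push f).mapHomologicalComplex _

lemma isKInjective_pushCx (I : CochainComplex (CohTop.Ab X) ℤ) [I.IsKInjective] :
    ((pushCx f).obj I).IsKInjective :=
  haveI := preservesFiniteLimits_pull f
  haveI := preservesFiniteColimits_pull f
  haveI : (CohTop.pull f).Additive :=
    Adjunction.left_adjoint_additive (F := CohTop.pull f) (G := CohTop.push f)
      (TopCat.Sheaf.pullbackPushforwardAdjunction AddCommGrpCat.{u} f)
  DerCat.isKInjective_map_rightAdjoint (u := CohTop.push f) (w := CohTop.pull f)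
    (TopCat.Sheaf.pullbackPushforwardAdjunction AddCommGrpCat.{u} f) I

/-- The presheaf homology of a direct image is that of the original on preimages. -/
def preZPushIso (I : CochainComplex (CohTop.Ab X) ℤ) :
    (preZ ((pushCx f).obj I)).homology 0 ≅ (Opens.map f).op ⋙ (preZ I).homology 0 :=
  ((preZ I).sc 0).mapHomologyIso
    ((Functor.whiskeringLeft _ _ AddCommGrpCat.{u}).obj (Opens.map f).op)

/-- Homology of a complex of sheaves is the sheafified homology of sections. -/
def sheafHomologyIso (J : CochainComplex (CohTop.Ab Y) ℤ) :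
    J.homology 0 ≅ (presheafToSheaf (Opens.grothendieckTopology Y) AddCommGrpCat.{u}).obj
      ((preZ J).homology 0) :=
  let e : 𝟭 (CohTop.Ab Y) ≅ sheafToPresheaf (Opens.grothendieckTopology Y) AddCommGrpCat.{u} ⋙
      presheafToSheaf (Opens.grothendieckTopology Y) AddCommGrpCat.{u} :=
    (asIso (sheafificationAdjunction (Opens.grothendieckTopology Y) AddCommGrpCat.{u}).counit).symm
  (HomologicalComplex.homologyFunctor _ _ 0).mapIso
    ((NatIso.mapHomologicalComplex e (ComplexShape.up ℤ)).app J) ≪≫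
    ((preZ J).sc 0).mapHomologyIso (presheafToSheaf (Opens.grothendieckTopology Y) AddCommGrpCat.{u})

lemma isZero_presheafToSheaf_of_basis (P : (Opens Y)ᵒᵖ ⥤ AddCommGrpCat.{u}) (B : Set (Opens Y))
    (hB : Opens.IsBasis B) (h : ∀ V ∈ B, Subsingleton (P.obj (op V))) :
    IsZero ((presheafToSheaf (Opens.grothendieckTopology Y) AddCommGrpCat.{u}).obj P) := by
  refine isZero_of_germ fun V s y hy => ?_
  obtain ⟨W, hWV, ⟨t, ht⟩, hyW⟩ := (TopCat.Presheaf.isLocallySurjective_iff _).1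
    (Presheaf.isLocallySurjective_toSheafify' (Opens.grothendieckTopology Y) P) V s y hy
  obtain ⟨W', hW', hyW', hle⟩ := Opens.isBasis_iff_nbhd.1 hB hyW
  have := h W' hW'
  have h0 : (sheafify (Opens.grothendieckTopology Y) P).map (homOfLE (hle.trans hWV)).op s = 0 := by
    refine (QCohBase.res_res _ hWV hle s).symm.trans ?_
    refine (congrArg _ ht.symm).trans ?_
    refine (QCohBase.nat_res P _ hle t).trans ?_
    rw [this.elim (QCohBase.res P hle t) 0, map_zero]
  refine (TopCat.Presheaf.germ_res_apply (sheafify (Opens.grothendieckTopology Y) P)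
    (homOfLE (hle.trans hWV)) y hyW' s).symm.trans ?_
  exact (congrArg _ h0).trans (map_zero _)

variable [HasDerivedCategory.{u} (CohTop.Ab X)]

lemma exists_kInjective_model (K : DerivedCategory (CohTop.Ab X)) :
    ∃ I : CochainComplex (CohTop.Ab X) ℤ, I.IsKInjective ∧ Nonempty (Q.obj I ≅ K) := by
  obtain ⟨N, j, h⟩ := Resolve.exists_functorial_resolution (CohTop.Ab X)
  haveI := (h (Q.objPreimage K)).2.1
  exact ⟨N.obj (Q.objPreimage K), (h _).2.2.1,
    ⟨(asIso (Q.map (j.app (Q.objPreimage K)))).symm ≪≫ Q.objObjPreimageIso K⟩⟩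

theorem negative_vanishing (B : Set (Opens Y)) (hB : Opens.IsBasis B)
    (K : DerivedCategory (CohTop.Ab X))
    (h : ∀ V ∈ B, ∀ i : ℤ, i < 0 → Subsingleton (CohCx.HDU K i ((Opens.map f).obj V))) :
    (∀ (V : Opens Y) (i : ℤ), i < 0 → Subsingleton (CohCx.HDU K i ((Opens.map f).obj V))) ∧
      Presheaf.IsSheaf (Opens.grothendieckTopology Y)
        ((Opens.map f).op ⋙ CohCx.HDUPresheaf K 0) := by
  letI := HasDerivedCategory.standard (CohTop.Ab Y)
  obtain ⟨I, hI, ⟨e⟩⟩ := exists_kInjective_model K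
  let J := Q.obj ((pushCx f).obj I)
  let eI : ∀ i : ℤ, (shiftFunctor (DerivedCategory (CohTop.Ab X)) i).obj K ≅
      Q.obj (I⟦i⟧) := fun i =>
    (shiftFunctor _ i).mapIso e.symm ≪≫ ((Q.commShiftIso i).app I).symm
  let eK : ∀ i : ℤ, CohCx.HDUPresheaf K i ≅ CohCx.HDUPresheaf (Q.obj (I⟦i⟧)) 0 := fun i =>
    Functor.isoWhiskerLeft _ (preadditiveYoneda.mapIso
      (eI i ≪≫ ((shiftFunctorZero (DerivedCategory (CohTop.Ab X)) ℤ).app (Q.obj (I⟦i⟧))).symm))
  let eP : ∀ i : ℤ, (preZ ((pushCx f).obj (I⟦i⟧))).homology 0 ≅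
      (Opens.map f).op ⋙ CohCx.HDUPresheaf K i := fun i =>
    preZPushIso f (I⟦i⟧) ≪≫
      Functor.isoWhiskerLeft _ ((nonempty_hduIso (I⟦i⟧)).some ≪≫ (eK i).symm)
  let eJ : ∀ i : ℤ, Q.obj ((pushCx f).obj (I⟦i⟧)) ≅
      (shiftFunctor (DerivedCategory (CohTop.Ab Y)) i).obj J := fun i =>
    Q.mapIso (((pushCx f).commShiftIso i).app I) ≪≫ (Q.commShiftIso i).app ((pushCx f).obj I)
  have hGE : J.IsGE 0 := by
    rw [DerivedCategory.isGE_iff]
    intro i hi
    refine IsZero.of_iso ?_ (((homologyFunctor (CohTop.Ab Y) 0).shiftIso i 0 i (add_zero i)).app J).symm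
    refine IsZero.of_iso ?_ ((homologyFunctor (CohTop.Ab Y) 0).mapIso (eJ i).symm ≪≫
      (homologyFunctorFactors (CohTop.Ab Y) 0).app ((pushCx f).obj (I⟦i⟧)))
    refine IsZero.of_iso (isZero_presheafToSheaf_of_basis _ B hB fun V hV => ?_)
      (sheafHomologyIso ((pushCx f).obj (I⟦i⟧)))
    exact @Function.Injective.subsingleton _ _ _
      ((eP i).app (op V)).addCommGroupIsoToAddEquiv.injective (h V hV i hi)
  refine ⟨fun V i hi => ?_, ?_⟩
  · have h1 : ((shiftFunctor (DerivedCategory (CohTop.Ab Y)) i).obj J).IsGE (-i) :=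
      TStructure.t.isGE_shift J 0 i (-i)
    have h2 : (Q.obj ((pushCx f).obj (I⟦i⟧))).IsGE (-i) := TStructure.t.isGE_of_iso (eJ i).symm (-i)
    haveI : (Q.obj ((pushCx f).obj (I⟦i⟧))).IsGE 0 := TStructure.t.isGE_of_ge _ 0 (-i)
    haveI := isKInjective_pushCx f (I⟦i⟧)
    have hz : IsZero (CohCx.HD (Q.obj ((pushCx f).obj (I⟦i⟧))) 0) :=
      @isZero_of_isGE _ _ _ _ _ (-i) 0 (by omega) h2
    obtain ⟨g⟩ := nonempty_homology_iso_HD ((pushCx f).obj (I⟦i⟧))
    have hz' : IsZero ((preZ ((pushCx f).obj (I⟦i⟧))).homology 0) :=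
      (Functor.map_isZero (sheafToPresheaf _ _) hz).of_iso g
    exact AddCommGrpCat.subsingleton_of_isZero
      (((hz'.of_iso (eP i).symm)).obj (op V))
  · haveI := isKInjective_pushCx f I
    haveI : (Q.obj ((pushCx f).obj I)).IsGE 0 := hGE
    obtain ⟨g⟩ := nonempty_homology_iso_HD ((pushCx f).obj I)
    let e0 : CohCx.HDUPresheaf (Q.obj I) 0 ≅ CohCx.HDUPresheaf K 0 :=
      Functor.isoWhiskerLeft _ (preadditiveYoneda.mapIso ((shiftFunctor _ (0 : ℤ)).mapIso e))
    refine (Presheaf.isSheaf_of_iso_iff ?_).2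
      (CohCx.HD (Q.obj ((pushCx f).obj I)) 0).property
    exact (Functor.isoWhiskerLeft _ ((nonempty_hduIso I).some ≪≫ e0)).symm ≪≫
      (preZPushIso f I).symm ≪≫ g

end Groth.Agent.CohTopLib
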