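import Groth.Agent.CohTopLib.Functors
import Groth.Agent.FlasqueAcyclic.Compare

/-!
# Higher direct images and restriction to an open of the base
-/

noncomputable section

universe u

open CategoryTheory Limits TopologicalSpace Opposite

namespace Groth.Agent.CohTopLib

open QCohBase

variable {X Y : TopCat.{u}} (f : X ⟶ Y) (V : Opens Y)

/-- The restriction of a map over an open of the target. -/
abbrev resMap : TopCat.of ((Opens.map f).obj V) ⟶ TopCat.of V :=
  TopCat.ofHom ⟨(V : Set Y).restrictPreimage f, f.hom.continuous.restrictPreimage⟩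

lemma functor_map_resMap (W : Opens (TopCat.of V)) :
    ((Opens.map f).obj V).isOpenEmbedding.isOpenMap.functor.obj ((Opens.map (resMap f V)).obj W) =
      (Opens.map f).obj (V.isOpenEmbedding.isOpenMap.functor.obj W) := by
  ext x
  constructor
  · rintro ⟨z, hz, rfl⟩
    exact ⟨_, hz, rfl⟩
  · rintro ⟨w, hw, hwx⟩
    have hx : f x ∈ V := by rw [show f x = w.1 from hwx.symm]; exact w.2
    refine ⟨⟨x, hx⟩, ?_, rfl⟩
    have : (⟨f x, hx⟩ : V) = w := Subtype.ext hwx.symm
    change (⟨f x, hx⟩ : V) ∈ W
    rw [this]
    exact hw

/-- Direct image commutes with restriction to an open of the base. -/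
def restrPushIso : CohTop.restrFunctor ((Opens.map f).obj V) ⋙ CohTop.push (resMap f V) ≅
    CohTop.push f ⋙ CohTop.restrFunctor V :=
  NatIso.ofComponents (fun F =>
    (fullyFaithfulSheafToPresheaf _ _).preimageIso
      (NatIso.ofComponents (fun W => F.obj.mapIso (eqToIso (congrArg op (functor_map_resMap f V W.unop))))
        (fun {W W'} g => by
          dsimp only [Functor.comp_obj]
          refine Eq.trans (F.obj.map_comp _ _).symm (Eq.trans ?_ (F.obj.map_comp _ _))
          rfl)))
    (fun {F G} φ => CategoryTheory.Sheaf.hom_ext (NatTrans.ext (funext fun W => by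
      exact (φ.hom.naturality _).symm)))

theorem nonempty_restr_Rpush (F : CohTop.Ab X) (p : ℕ) :
    Nonempty (CohTop.restr ((CohTop.Rpush f p).obj F) V ≅
      (CohTop.Rpush (resMap f V) p).obj (CohTop.restr F ((Opens.map f).obj V))) := by
  haveI : (CohTop.push (resMap f V)).Additive := { }
  haveI : PreservesFiniteLimits (CohTop.push (resMap f V)) := preservesFiniteLimits_push (resMap f V)
  haveI : (CohTop.restrFunctor V).Additive := { }
  obtain ⟨e⟩ := FlasqueAcyclic.nonempty_homology_iso (CohTop.restrFunctor ((Opens.map f).obj V))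
    (CohTop.push (resMap f V))
    (fun J hJ n =>
      haveI := FlasqueAcyclic.isFlasque_of_injective J
      haveI := isFlasque_restr ((Opens.map f).obj V) J
      FlasqueAcyclic.isZero_rightDerived_push_of_isFlasque (resMap f V) _ n)
    (restrPushIso f V) (injectiveResolution F) p
  exact ⟨FlasqueAcyclic.mapRightDerivedIso (CohTop.push f) (CohTop.restrFunctor V)
    (injectiveResolution F) p ≪≫ e.symm⟩

end Groth.Agent.CohTopLib
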