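import Groth.Agent.SiteRlim.RlimInj
import Mathlib.Topology.Sheaves.Stalks

/-! # Injectivity on stalks for cohomology sheaves of derived limits -/

set_option autoImplicit false
set_option linter.all false
set_option backward.isDefEq.respectTransparency false
set_option backward.defeqAttrib.useBackward true

universe w u

open CategoryTheory CategoryTheory.Limits CategoryTheory.Abelian Opposite DerivedCategory TopologicalSpace

namespace Groth.Agent.SiteRlim

variable {X : TopCat.{u}}


variable [HasDerivedCategory.{w} (Sheaf (Opens.grothendieckTopology X) AddCommGrpCat.{u})]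

theorem injective_stalk_rlim (K : ℕ → DerivedCategory (Sheaf (Opens.grothendieckTopology X) AddCommGrpCat.{u})) (t : ∀ n, K (n + 1) ⟶ K n)
    [HasProduct K] (L : DerivedCategory (Sheaf (Opens.grothendieckTopology X) AddCommGrpCat.{u})) (a : ∀ n, L ⟶ K n)
    (hL : CohCx.IsRlimVia K t L a) (x : X) (m : ℤ) (nx : ℕ)
    (h : ∀ V : Opens X, x ∈ V → ∃ U : Opens X, x ∈ U ∧ U ≤ V ∧
      CohCx.LimOneIsZero (fun n => CohCx.HDU (K n) (m - 1) U)
        (fun n => Preadditive.rightComp _ ((shiftFunctor _ (m - 1)).map (t n))) ∧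
      ∀ k : ℕ, Function.Injective
        (Preadditive.rightComp _ ((shiftFunctor _ m).map (CohCx.transition K t nx k)) :
          CohCx.HDU (K (nx + k)) m U → CohCx.HDU (K nx) m U)) :
    Function.Injective ((TopCat.Presheaf.stalkFunctor AddCommGrpCat.{u} x).map
      ((DerivedCategory.homologyFunctor (Sheaf (Opens.grothendieckTopology X) AddCommGrpCat.{u}) m).map (a nx)).hom) := by
  let T := freeTestSys (Opens.grothendieckTopology X)
  have hcomp : ∀ n, a (n + 1) ≫ t n = a n := fun n => by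
    obtain ⟨c, hT⟩ := hL
    have h : Pi.lift a ≫ diffMap K t = 0 := Pretriangulated.comp_distTriang_mor_zero₁₂ _ hT
    have := congrArg (fun p => p ≫ Pi.π K n) h
    simp only [Category.assoc, Pi.lift_π, Preadditive.comp_sub, zero_comp] at this
    rw [← Category.assoc, Pi.lift_π, sub_eq_zero] at this
    exact this.symm
  have htr : ∀ k, a (nx + k) ≫ CohCx.transition K t nx k = a nx := by
    intro k
    induction k with
    | zero => exact Category.comp_id _
    | succ k ih =>
      show a (nx + k + 1) ≫ t (nx + k) ≫ CohCx.transition K t nx k = a nx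
      rw [← Category.assoc, hcomp, ih]
  let ε : shiftFunctor (DerivedCategory (Sheaf (Opens.grothendieckTopology X) AddCommGrpCat.{u})) m ⋙ homologyFunctor _ 0 ≅ homologyFunctor _ m :=
    (homologyFunctor _ 0).shiftIso m 0 m (by omega)
  let g := (DerivedCategory.homologyFunctor (Sheaf (Opens.grothendieckTopology X) AddCommGrpCat.{u}) m).map (a nx)
  let P : TopCat.Presheaf AddCommGrpCat.{u} X := (CohCx.HD L m).obj
  let Q : TopCat.Presheaf AddCommGrpCat.{u} X := (CohCx.HD (K nx) m).obj
  let g' : P ⟶ Q := g.hom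
  change Function.Injective ((TopCat.Presheaf.stalkFunctor AddCommGrpCat.{u} x).map g')
  rw [injective_iff_map_eq_zero]
  intro ξ hξ
  obtain ⟨V₀, hx₀, x₀, rfl⟩ := P.germ_exist ξ
  erw [TopCat.Presheaf.stalkFunctor_map_germ_apply V₀ x hx₀ g' x₀] at hξ
  obtain ⟨V, hxV, i₁, i₂, e⟩ := Q.germ_eq x hx₀ hx₀ (g'.app (op V₀) x₀) 0
    (hξ.trans (map_zero (Q.germ V₀ x hx₀).hom).symm)
  rw [map_zero] at e
  rw [← TopCat.Presheaf.germ_res_apply P i₁ x hxV x₀]
  have hy : g'.app (op V) (P.map i₁.op x₀) = 0 := (ConcreteCategory.congr_hom (g'.naturality i₁.op) x₀).trans e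
  generalize P.map i₁.op x₀ = y at hy
  let s : T.P.obj V ⟶ (homologyFunctor _ 0).obj (L⟦m⟧) := (secAdd V _).symm y ≫ ε.inv.app L
  have hs : s ≫ (homologyFunctor _ 0).map ((a nx)⟦m⟧') = 0 := by
    show (_ ≫ ε.inv.app L) ≫ _ = 0
    rw [Category.assoc]
    have := ε.inv.naturality (a nx)
    simp only [Functor.comp_map] at this
    rw [← this, ← Category.assoc]
    have h0 : (secAdd V (CohCx.HD L m)).symm y ≫ (homologyFunctor _ m).map (a nx) = 0 := by
      apply (secAdd V _).injective
      rw [map_zero]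
      refine (CohAcyc.secEquiv'_comp V _ _).trans ?_
      exact (congrArg _ ((secAdd V _).apply_symm_apply y)).trans hy
    rw [h0, zero_comp]
  obtain ⟨S, hS, hl⟩ := T.local_surj s
  obtain ⟨W, b, hb, hxW⟩ := hS x hxV
  obtain ⟨φ₀, hφ₀⟩ := hl b hb
  obtain ⟨S', hS', hz⟩ := T.local_zero (φ₀ ≫ (a nx)⟦m⟧') (by
    rw [T.cl_comp, hφ₀, Category.assoc, hs, comp_zero])
  obtain ⟨W', b', hb', hxW'⟩ := hS' x hxW
  obtain ⟨U, hxU, hUW, hlim, hinj⟩ := h W' hxW'
  let c : U ⟶ V := homOfLE hUW ≫ b' ≫ b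
  let φ : T.S.obj U ⟶ L⟦m⟧ := T.S.map (homOfLE hUW) ≫ T.S.map b' ≫ φ₀
  have h2 : φ ≫ (a nx)⟦m⟧' = 0 := by
    simp only [φ, Category.assoc]
    rw [hz b' hb', comp_zero]
  have h1 : T.cl φ = T.P.map c ≫ s := by
    simp only [φ, c]
    rw [T.cl_map, T.cl_map, hφ₀, T.P.map_comp, T.P.map_comp]
    simp only [Category.assoc]
  have hge : ∀ k, φ ≫ (a (nx + k))⟦m⟧' = 0 := fun k => by
    apply hinj k
    show (φ ≫ _) ≫ _ = (0 : T.S.obj U ⟶ _) ≫ _
    rw [Category.assoc, ← Functor.map_comp, htr, h2, zero_comp]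
  have hle : ∀ j k, φ ≫ (a (k + j))⟦m⟧' = 0 → φ ≫ (a k)⟦m⟧' = 0 := by
    intro j
    induction j with
    | zero => exact fun k h => h
    | succ j ih =>
      intro k hk
      apply ih
      rw [← hcomp (k + j), Functor.map_comp, ← Category.assoc]
      exact (congrArg (· ≫ _) hk).trans zero_comp
  have hzero : T.P.map c ≫ s = 0 := by
    rw [← h1, eq_zero_of_limOne K t a hL (T.S.obj U) m (fun v => ?_) φ
      (fun k => hle nx k (by rw [Nat.add_comm]; exact hge k)), T.cl_zero]
    obtain ⟨z, hz⟩ := hlim v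
    exact ⟨z, fun n => congrFun hz n⟩
  have hyU : P.map c.op y = 0 := by
    have h3 : T.P.map c ≫ (secAdd V (CohCx.HD L m)).symm y = 0 := by
      rw [← cancel_mono (ε.inv.app L), zero_comp, Category.assoc]; exact hzero
    have h4 := congrArg (secAdd U (CohCx.HD L m)) h3
    rw [map_zero] at h4
    refine Eq.trans ?_ h4
    exact ((CohAcyc.secEquiv'_naturality c (CohCx.HD L m) _).trans
      (congrArg _ ((secAdd V _).apply_symm_apply y))).symm
  rw [← TopCat.Presheaf.germ_res_apply P c x hxU y, hyU, map_zero]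

end Groth.Agent.SiteRlim
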