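import Mathlib.CategoryTheory.Abelian.RightDerived
import Mathlib.Algebra.Homology.HomologySequenceLemmas
import Mathlib.Algebra.Homology.HomologicalComplexAbelian
import Mathlib.Algebra.Homology.ShortComplex.ExactFunctor

/-!
# Derived functors of the kernel of a natural map that is surjective on injectives

For functors `K ⟶ Φ ⟶ G` with `Φ` exact, `G` left exact, short exact on injective objects:
`R¹K ≅ coker (Φ ⟶ G)` and `R^{n+2}K ≅ R^{n+1}G`.
-/

noncomputable section

universe v v' u u'

open CategoryTheory Limits HomologicalComplex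

namespace Groth.Agent.CohTopLib.ThreeTerm

variable {C : Type u} [Category.{v} C] [Abelian C] [HasInjectiveResolutions C]
  {D : Type u'} [Category.{v'} D] [Abelian D]
  {K Φ G : C ⥤ D} [K.Additive] [Φ.Additive] [G.Additive]
  (ι : K ⟶ Φ) (π : Φ ⟶ G) (hzero : ι ≫ π = 0)

/-- The value of the sequence. -/
abbrev seqAt (X : C) : ShortComplex D :=
  ShortComplex.mk (ι.app X) (π.app X) (by rw [← NatTrans.comp_app, hzero]; rfl)

/-- The short complex of complexes attached to a resolution. -/
abbrev seqCx (L : CochainComplex C ℕ) : ShortComplex (CochainComplex D ℕ) :=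
  ShortComplex.mk ((NatTrans.mapHomologicalComplex ι (ComplexShape.up ℕ)).app L)
    ((NatTrans.mapHomologicalComplex π (ComplexShape.up ℕ)).app L) (by
      ext n
      exact congrArg (fun m : K ⟶ G => m.app (L.X n)) hzero)

/-- Functoriality of the short complex of complexes. -/
def seqCxMap {L L' : CochainComplex C ℕ} (φ : L ⟶ L') : seqCx ι π hzero L ⟶ seqCx ι π hzero L' where
  τ₁ := (K.mapHomologicalComplex _).map φ
  τ₂ := (Φ.mapHomologicalComplex _).map φ
  τ₃ := (G.mapHomologicalComplex _).map φ
  comm₁₂ := (NatTrans.mapHomologicalComplex ι (ComplexShape.up ℕ)).naturality φ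
  comm₂₃ := (NatTrans.mapHomologicalComplex π (ComplexShape.up ℕ)).naturality φ

variable (hex : ∀ X : C, Injective X → (seqAt ι π hzero X).ShortExact)

include hex in
lemma seqCx_shortExact {X : C} (I : InjectiveResolution X) :
    (seqCx ι π hzero I.cocomplex).ShortExact :=
  HomologicalComplex.shortExact_of_degreewise_shortExact _ fun n => hex _ (I.injective n)

/-- The connecting map. -/
def dMap {X : C} (I : InjectiveResolution X) (n : ℕ) :
    ((G.mapHomologicalComplex _).obj I.cocomplex).homology n ⟶
      ((K.mapHomologicalComplex _).obj I.cocomplex).homology (n + 1) :=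
  (seqCx_shortExact ι π hzero hex I).δ n (n + 1) rfl

lemma dMap_naturality {X Y : C} (I : InjectiveResolution X) (J : InjectiveResolution Y)
    (φ : I.cocomplex ⟶ J.cocomplex) (n : ℕ) :
    dMap ι π hzero hex I n ≫ homologyMap ((K.mapHomologicalComplex _).map φ) (n + 1) =
      homologyMap ((G.mapHomologicalComplex _).map φ) n ≫ dMap ι π hzero hex J n :=
  HomologySequence.δ_naturality (seqCxMap ι π hzero φ)
    (seqCx_shortExact ι π hzero hex I) (seqCx_shortExact ι π hzero hex J) n (n + 1) rfl

lemma exactAt_exact_functor [PreservesFiniteLimits Φ] [PreservesFiniteColimits Φ]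
    {X : C} (I : InjectiveResolution X) (n : ℕ) :
    IsZero (((Φ.mapHomologicalComplex _).obj I.cocomplex).homology (n + 1)) :=
  (HomologicalComplex.exactAt_iff_isZero_homology _ _).1
    ((I.cocomplex_exactAt_succ n).map Φ)

lemma isIso_dMap [PreservesFiniteLimits Φ] [PreservesFiniteColimits Φ]
    {X : C} (I : InjectiveResolution X) (n : ℕ) : IsIso (dMap ι π hzero hex I (n + 1)) :=
  (seqCx_shortExact ι π hzero hex I).isIso_δ (n + 1) (n + 1 + 1) rfl
    (exactAt_exact_functor I n) (exactAt_exact_functor I (n + 1))

/-- The degree-shifted connecting map on derived functors. -/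
def dDerived (n : ℕ) : G.rightDerived n ⟶ K.rightDerived (n + 1) where
  app X := ((injectiveResolution X).isoRightDerivedObj G n).hom ≫
    dMap ι π hzero hex (injectiveResolution X) n ≫
      ((injectiveResolution X).isoRightDerivedObj K (n + 1)).inv
  naturality X Y f := by
    let I := injectiveResolution X
    let J := injectiveResolution Y
    let φ : I.cocomplex ⟶ J.cocomplex := InjectiveResolution.desc f J I
    have hc : I.ι.f 0 ≫ φ.f 0 = f ≫ J.ι.f 0 :=
      InjectiveResolution.desc_commutes_zero f J I
    have h1 := InjectiveResolution.isoRightDerivedObj_hom_naturality f I J φ hc G n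
    have h2 := InjectiveResolution.isoRightDerivedObj_inv_naturality f I J φ hc K (n + 1)
    refine (Category.assoc _ _ _).symm.trans ?_
    refine (congrArg (· ≫ _) h1).trans ?_
    refine Eq.trans ?_ (Category.assoc _ _ _).symm
    refine Eq.trans ?_ (congrArg (_ ≫ ·) (Category.assoc _ _ _).symm)
    refine Eq.trans ?_ (congrArg (fun m => _ ≫ _ ≫ m) h2).symm
    refine (Category.assoc _ _ _).trans (congrArg (_ ≫ ·) ?_)
    refine (Category.assoc _ _ _).symm.trans ?_
    refine (congrArg (· ≫ _) (dMap_naturality ι π hzero hex I J φ n).symm).trans ?_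
    exact Category.assoc _ _ _

/-- The map `G ⟶ R¹K`. -/
def toOne : G ⟶ K.rightDerived 1 := G.toRightDerivedZero ≫ dDerived ι π hzero hex 0

lemma toOne_app (X : C) : (toOne ι π hzero hex).app X =
    (injectiveResolution X).toRightDerivedZero' G ≫
      (CochainComplex.isoHomologyπ₀ ((G.mapHomologicalComplex _).obj (injectiveResolution X).cocomplex)).hom ≫
      dMap ι π hzero hex (injectiveResolution X) 0 ≫
      ((injectiveResolution X).isoRightDerivedObj K 1).inv := by
  change G.toRightDerivedZero.app X ≫ _ ≫ _ ≫ _ = _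
  rw [(injectiveResolution X).toRightDerivedZero_eq G]
  simp only [Category.assoc]
  erw [Iso.inv_hom_id_assoc]
  rfl

lemma π_zero_compat {X : C} (I : InjectiveResolution X) :
    π.app X ≫ I.toRightDerivedZero' G =
      I.toRightDerivedZero' Φ ≫
        cyclesMap ((NatTrans.mapHomologicalComplex π (ComplexShape.up ℕ)).app I.cocomplex) 0 := by
  rw [← cancel_mono (((G.mapHomologicalComplex _).obj I.cocomplex).iCycles 0), Category.assoc,
    Category.assoc, cyclesMap_i, InjectiveResolution.toRightDerivedZero'_comp_iCycles,
    InjectiveResolution.toRightDerivedZero'_comp_iCycles_assoc]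
  exact (π.naturality (I.ι.f 0)).symm

variable [PreservesFiniteLimits Φ] [PreservesFiniteColimits Φ] [PreservesFiniteLimits G]

include hex in
theorem nonempty_one_iso_cokernel : Nonempty (K.rightDerived 1 ≅ cokernel π) := by
  have key : ∀ X : C, ∃ w : π.app X ≫ (toOne ι π hzero hex).app X = 0,
      Epi ((toOne ι π hzero hex).app X) ∧ (ShortComplex.mk _ _ w).Exact := by
    intro X
    let I := injectiveResolution X
    have hS := seqCx_shortExact ι π hzero hex I
    let aΦ := I.toRightDerivedZero' Φ ≫
      (CochainComplex.isoHomologyπ₀ ((Φ.mapHomologicalComplex _).obj I.cocomplex)).hom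
    let aG := I.toRightDerivedZero' G ≫
      (CochainComplex.isoHomologyπ₀ ((G.mapHomologicalComplex _).obj I.cocomplex)).hom
    have hcomm : π.app X ≫ aG = aΦ ≫ homologyMap
        ((NatTrans.mapHomologicalComplex π (ComplexShape.up ℕ)).app I.cocomplex) 0 := by
      refine (Category.assoc _ _ _).symm.trans ?_
      refine (congrArg (· ≫ _) (π_zero_compat π I)).trans ?_
      refine (Category.assoc _ _ _).trans (Eq.trans (congrArg (_ ≫ ·) ?_) (Category.assoc _ _ _).symm)
      exact (homologyπ_naturality _ 0).symm
    have w : π.app X ≫ (toOne ι π hzero hex).app X = 0 := by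
      rw [toOne_app]
      refine (Category.assoc _ _ _).symm.trans ?_
      refine (congrArg (· ≫ _) (π_zero_compat π I)).trans ?_
      refine (Category.assoc _ _ _).trans ?_
      refine (congrArg (_ ≫ ·) ((Category.assoc _ _ _).symm.trans (congrArg (· ≫ _)
        (homologyπ_naturality ((NatTrans.mapHomologicalComplex π (ComplexShape.up ℕ)).app I.cocomplex) 0).symm))).trans ?_
      have hz := hS.comp_δ 0 1 rfl
      simp only [Category.assoc]
      refine (congrArg (fun m => _ ≫ _ ≫ m) ((Category.assoc _ _ _).symm.trans
        ((congrArg (· ≫ _) hz).trans zero_comp))).trans ?_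
      simp
    refine ⟨w, ?_, ?_⟩
    · have : Epi (dMap ι π hzero hex I 0) :=
        (hS.homology_exact₁ 0 1 rfl).epi_f ((exactAt_exact_functor I 0).eq_of_tgt _ _)
      rw [toOne_app]
      infer_instance
    · have eX : ShortComplex.mk _ _ w ≅ ShortComplex.mk _ _ (hS.comp_δ 0 1 rfl) := by
        refine ShortComplex.isoMk (asIso aΦ) (asIso aG) (I.isoRightDerivedObj K 1) hcomm.symm ?_
        change aG ≫ dMap ι π hzero hex I 0 = (toOne ι π hzero hex).app X ≫ _
        refine Eq.trans ?_ (congrArg (· ≫ _) (toOne_app ι π hzero hex X)).symm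
        simp only [aG, Category.assoc]
        erw [Iso.inv_hom_id, Category.comp_id]
      exact (ShortComplex.exact_iff_of_iso eX).2 (hS.homology_exact₃ 0 1 rfl)
  have w : π ≫ toOne ι π hzero hex = 0 := NatTrans.ext (funext fun X => (key X).choose)
  let ψ : cokernel π ⟶ K.rightDerived 1 := cokernel.desc π (toOne ι π hzero hex) w
  have : ∀ X, IsIso (ψ.app X) := by
    intro X
    obtain ⟨wX, hepi, hexact⟩ := key X
    haveI := hepi
    let ev := (evaluation C D).obj X
    have hc : IsColimit (CokernelCofork.ofπ ((cokernel.π π).app X)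
        (show π.app X ≫ (cokernel.π π).app X = 0 from
          congrArg (fun m : Φ ⟶ cokernel π => m.app X) (cokernel.condition π))) :=
      CokernelCofork.mapIsColimit _ (cokernelIsCokernel π) ev
    have hd : (cokernel.π π).app X ≫ ψ.app X = (toOne ι π hzero hex).app X :=
      congrArg (fun m : G ⟶ K.rightDerived 1 => m.app X) (cokernel.π_desc π _ w)
    have hψ : ψ.app X = (hc.coconePointUniqueUpToIso hexact.gIsCokernel).hom := by
      refine Cofork.IsColimit.hom_ext hc ?_
      exact hd.trans (IsColimit.comp_coconePointUniqueUpToIso_hom hc hexact.gIsCokernel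
        WalkingParallelPair.one).symm
    rw [hψ]
    infer_instance
  have : IsIso ψ := NatIso.isIso_of_isIso_app _
  exact ⟨(asIso ψ).symm⟩

omit [PreservesFiniteLimits G] in
include hzero hex in
theorem nonempty_succ_iso (n : ℕ) : Nonempty (K.rightDerived (n + 2) ≅ G.rightDerived (n + 1)) := by
  have : ∀ X, IsIso ((dDerived ι π hzero hex (n + 1)).app X) := fun X => by
    haveI := isIso_dMap ι π hzero hex (injectiveResolution X) n
    exact IsIso.comp_isIso' (Iso.isIso_hom _) (IsIso.comp_isIso' (isIso_dMap ι π hzero hex (injectiveResolution X) n) (Iso.isIso_inv _))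
  have : IsIso (dDerived ι π hzero hex (n + 1)) := NatIso.isIso_of_isIso_app _
  exact ⟨(asIso (dDerived ι π hzero hex (n + 1))).symm⟩

end Groth.Agent.CohTopLib.ThreeTerm
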